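import Mathlib

/-!
# S3816 (helper14 design): fixed points of `[H, P]` are generated by fixed points of the `[h, P]`

Internal formulation: `X` an ambient finite group, `a : X` with `a ^ p = 1`, `K ≤ X` an `a`-invariant
solvable subgroup of order prime to `p`.  See `plans/S3816_plan.md`.
-/

set_option autoImplicit false

namespace Cfsg.Agent.Helper14.FX

universe u

variable {X : Type u} [Group X]

/-- `[g, a]`: the subgroup generated by the `g⁻¹ * (a^i g a^-i)` -/
def cD (a g : X) : Subgroup X :=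
  Subgroup.closure {c : X | ∃ i : ℕ, c = g⁻¹ * (a ^ i * g * (a ^ i)⁻¹)}

/-- `[K, a]` -/
def cDK (a : X) (K : Subgroup X) : Subgroup X :=
  Subgroup.closure {c : X | ∃ g ∈ K, ∃ i : ℕ, c = g⁻¹ * (a ^ i * g * (a ^ i)⁻¹)}

/-- `C_X(a)` -/
def cC (a : X) : Subgroup X := Subgroup.centralizer ({a} : Set X)

/-- `⟨ C_{[g,a]}(a) : g ∈ K ⟩` -/
def cR (a : X) (K : Subgroup X) : Subgroup X := ⨆ g : K, cD a (g : X) ⊓ cC a

/-- `K` is `a`-invariant -/
def Inv (a : X) (K : Subgroup X) : Prop := ∀ k ∈ K, a * k * a⁻¹ ∈ K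

/-- `K` normalizes `V` (elementwise form) -/
def Nml (K V : Subgroup X) : Prop := ∀ k ∈ K, ∀ v ∈ V, k * v * k⁻¹ ∈ V

/-- the statement to be proved for `K` -/
def Good (a : X) (K : Subgroup X) : Prop := cDK a K ⊓ cC a ≤ cR a K

/-- the hypotheses -/
structure Hyp (p : ℕ) (a : X) (K : Subgroup X) : Prop where
  pow : a ^ p = 1
  inv : Inv a K
  solv : Group.IsSolvable K
  cop : (Nat.card K).Coprime p

/-- a minimal counterexample -/
structure MinCE (p : ℕ) (a : X) (K : Subgroup X) : Prop where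
  hyp : Hyp p a K
  ih : ∀ (X' : Type u) [Group X'] [Finite X'] (a' : X') (K' : Subgroup X'),
    Nat.card K' < Nat.card K → Hyp p a' K' → Good a' K'
  bad : ¬ Good a K

/-- `V` is a minimal `a`-invariant normal subgroup of `K`, elementary abelian of exponent `r` -/
structure IsMin (a : X) (K V : Subgroup X) (r : ℕ) : Prop where
  prime : r.Prime
  le : V ≤ K
  ne_bot : V ≠ ⊥
  nml : Nml K V
  inv : Inv a V
  comm : ∀ x ∈ V, ∀ y ∈ V, x * y = y * x
  exp : ∀ x ∈ V, x ^ r = 1
  min : ∀ W : Subgroup X, W ≤ V → Nml K W → Inv a W → W = ⊥ ∨ W = V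

/-- the kernel of the canonical map `K₁ → C_K(a)/R` for an `a`-invariant `K₁ ≤ K` -/
def cKer (a : X) (K K₁ : Subgroup X) : Subgroup X := cDK a K₁ ⊔ (K₁ ⊓ cR a K)

/-- the internal Frattini subgroup -/
def cPhi (K : Subgroup X) : Subgroup X := (frattini ↥K).map K.subtype

/-- an `a`-invariant Sylow `s`-subgroup `Q` of `K` with `K = Q V` -/
structure IsQ (a : X) (K V Q : Subgroup X) (s : ℕ) : Prop where
  prime : s.Prime
  le : Q ≤ K
  pg : IsPGroup s Q
  inv : Inv a Q
  sup : Q ⊔ V = K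

end Cfsg.Agent.Helper14.FX
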