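import Mathlib
import Cfsg.Agent.Lib.FX.FXDefs

/-! S3816 piece FX-B1 (helper14 design; see plans/S3816_plan.md).  Proved by helper26. -/

set_option autoImplicit false

namespace Cfsg.Agent.Helper14.FX

open Subgroup

universe u

variable {X : Type u} [Group X]

section B1
variable {a : X} {K : Subgroup X}

theorem mem_cC {x : X} : x ∈ cC a ↔ a * x = x * a := by
  unfold cC
  rw [Subgroup.mem_centralizer_iff]
  constructor
  · intro h
    exact h a (Set.mem_singleton a)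
  · intro h y hy
    rw [Set.mem_singleton_iff] at hy
    subst hy
    exact h

theorem gen_mem_cD (a g : X) (i : ℕ) : g⁻¹ * (a ^ i * g * (a ^ i)⁻¹) ∈ cD a g :=
  Subgroup.subset_closure ⟨i, rfl⟩

theorem gen_mem_cDK {g : X} (hg : g ∈ K) (i : ℕ) : g⁻¹ * (a ^ i * g * (a ^ i)⁻¹) ∈ cDK a K :=
  Subgroup.subset_closure ⟨g, hg, i, rfl⟩

theorem cD_le_cDK {g : X} (hg : g ∈ K) : cD a g ≤ cDK a K := by
  unfold cD
  rw [Subgroup.closure_le]
  rintro c ⟨i, rfl⟩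
  exact gen_mem_cDK hg i

theorem cDK_mono {K₁ K₂ : Subgroup X} (h : K₁ ≤ K₂) : cDK a K₁ ≤ cDK a K₂ := by
  unfold cDK
  apply Subgroup.closure_mono
  rintro c ⟨g, hg, i, rfl⟩
  exact ⟨g, h hg, i, rfl⟩

theorem cR_mono {K₁ K₂ : Subgroup X} (h : K₁ ≤ K₂) : cR a K₁ ≤ cR a K₂ := by
  unfold cR
  apply iSup_le
  intro g
  exact le_iSup (fun g : K₂ => cD a (g : X) ⊓ cC a) ⟨g.1, h g.2⟩

theorem cD_inf_le_cR {g : X} (hg : g ∈ K) : cD a g ⊓ cC a ≤ cR a K := by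
  unfold cR
  exact le_iSup (fun g : K => cD a (g : X) ⊓ cC a) ⟨g, hg⟩

theorem cR_le : cR a K ≤ cDK a K ⊓ cC a := by
  unfold cR
  apply iSup_le
  intro g
  exact le_inf (inf_le_left.trans (cD_le_cDK g.2)) inf_le_right

theorem cDK_le_iff {M : Subgroup X} : cDK a K ≤ M ↔ ∀ g ∈ K, ∀ i : ℕ, g⁻¹ * (a ^ i * g * (a ^ i)⁻¹) ∈ M := by
  unfold cDK
  rw [Subgroup.closure_le]
  constructor
  · intro h g hg i
    exact h ⟨g, hg, i, rfl⟩
  · rintro h c ⟨g, hg, i, rfl⟩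
    exact h g hg i

end B1

end Cfsg.Agent.Helper14.FX
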