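import Mathlib
import Cfsg.Agent.Lib.FX.FXDefs
import Cfsg.Agent.Lib.FX.FXB1

/-! S3816 piece FX-B2A (helper14 design; see plans/S3816_plan.md).  Proved by helper26. -/

set_option autoImplicit false

namespace Cfsg.Agent.Helper14.FX

open Subgroup

universe u

variable {X : Type u} [Group X]

section B2
variable {a : X} {K : Subgroup X}

theorem fx_b2a_closure_conj (a : X) (S : Set X) (M : Subgroup X)
    (h : ∀ c ∈ S, a * c * a⁻¹ ∈ M) : ∀ k ∈ Subgroup.closure S, a * k * a⁻¹ ∈ M := by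
  intro k hk
  induction hk using Subgroup.closure_induction with
  | mem x hx => exact h x hx
  | one => simp
  | mul x y _ _ hx hy =>
    have : a * (x * y) * a⁻¹ = (a * x * a⁻¹) * (a * y * a⁻¹) := by group
    rw [this]
    exact M.mul_mem hx hy
  | inv x _ hx =>
    have : a * x⁻¹ * a⁻¹ = (a * x * a⁻¹)⁻¹ := by group
    rw [this]
    exact M.inv_mem hx

theorem inv_pow (h : Inv a K) (i : ℕ) : ∀ k ∈ K, a ^ i * k * (a ^ i)⁻¹ ∈ K := by
  induction i with
  | zero => intro k hk; simpa using hk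
  | succ n ih =>
    intro k hk
    have : a ^ (n + 1) * k * (a ^ (n + 1))⁻¹ = a * (a ^ n * k * (a ^ n)⁻¹) * a⁻¹ := by
      rw [pow_succ']
      group
    rw [this]
    exact h _ (ih k hk)

theorem inv_inv [Finite X] (h : Inv a K) : ∀ k ∈ K, a⁻¹ * k * a ∈ K := by
  intro k hk
  have hpos : 0 < orderOf a := orderOf_pos a
  have h1 : a ^ (orderOf a - 1) * a = 1 := by
    rw [← pow_succ, Nat.sub_add_cancel hpos, pow_orderOf_eq_one]
  have h2 : a ^ (orderOf a - 1) = a⁻¹ := eq_inv_of_mul_eq_one_left h1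
  have h3 := inv_pow h (orderOf a - 1) k hk
  rw [h2] at h3
  simpa using h3

theorem inv_cD (a g : X) : Inv a (cD a g) := by
  unfold Inv
  unfold cD
  apply fx_b2a_closure_conj
  rintro c ⟨i, rfl⟩
  have : a * (g⁻¹ * (a ^ i * g * (a ^ i)⁻¹)) * a⁻¹
      = (g⁻¹ * (a ^ 1 * g * (a ^ 1)⁻¹))⁻¹ * (g⁻¹ * (a ^ (i + 1) * g * (a ^ (i + 1))⁻¹)) := by
    rw [pow_succ']
    group
  rw [this]
  exact Subgroup.mul_mem _ (Subgroup.inv_mem _ (Subgroup.subset_closure ⟨1, rfl⟩))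
    (Subgroup.subset_closure ⟨i + 1, rfl⟩)

theorem inv_cDK (h : Inv a K) : Inv a (cDK a K) := by
  unfold Inv
  unfold cDK
  apply fx_b2a_closure_conj
  rintro c ⟨g, hg, i, rfl⟩
  have hcomm : a * a ^ i = a ^ i * a := by
    rw [← pow_succ', ← pow_succ]
  have : a * (g⁻¹ * (a ^ i * g * (a ^ i)⁻¹)) * a⁻¹
      = (a * g * a⁻¹)⁻¹ * (a ^ i * (a * g * a⁻¹) * (a ^ i)⁻¹) := by
    have e1 : a ^ i * (a * g * a⁻¹) * (a ^ i)⁻¹ = (a ^ i * a) * g * (a ^ i * a)⁻¹ := by group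
    rw [e1, ← hcomm]
    group
  rw [this]
  exact Subgroup.subset_closure ⟨a * g * a⁻¹, h g hg, i, rfl⟩

theorem cDK_le (h : Inv a K) : cDK a K ≤ K := by
  rw [cDK_le_iff]
  intro g hg i
  exact K.mul_mem (K.inv_mem hg) (inv_pow h i g hg)

theorem cD_le (h : Inv a K) {g : X} (hg : g ∈ K) : cD a g ≤ K :=
  (cD_le_cDK hg).trans (cDK_le h)

end B2

end Cfsg.Agent.Helper14.FX
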