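import Mathlib
import Cfsg.Agent.Lib.FX.FXDefs
import Cfsg.Agent.Lib.FX.FXB1
import Cfsg.Agent.Lib.FX.FXB2A

/-! S3816 piece FX-B2B (helper14 design; see plans/S3816_plan.md).  Proved by helper26. -/

set_option autoImplicit false

namespace Cfsg.Agent.Helper14.FX

open Subgroup

universe u

variable {X : Type u} [Group X]

section B2
variable {a : X} {K : Subgroup X}

theorem inv_of_le_cC {W : Subgroup X} (h : W ≤ cC a) : Inv a W := by
  intro k hk
  have hc : a * k = k * a := mem_cC.1 (h hk)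
  have : a * k * a⁻¹ = k := by rw [hc]; group
  rw [this]
  exact hk

theorem inv_inf {K₁ K₂ : Subgroup X} (h1 : Inv a K₁) (h2 : Inv a K₂) : Inv a (K₁ ⊓ K₂) := by
  intro k hk
  exact ⟨h1 k hk.1, h2 k hk.2⟩

theorem inv_sup {K₁ K₂ : Subgroup X} (h1 : Inv a K₁) (h2 : Inv a K₂) : Inv a (K₁ ⊔ K₂) := by
  have hcl : K₁ ⊔ K₂ = Subgroup.closure ((K₁ : Set X) ∪ (K₂ : Set X)) := by
    rw [Subgroup.closure_union, Subgroup.closure_eq, Subgroup.closure_eq]
  unfold Inv
  rw [hcl]
  apply fx_b2a_closure_conj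
  rintro c (hc | hc)
  · exact Subgroup.subset_closure (Or.inl (h1 c hc))
  · exact Subgroup.subset_closure (Or.inr (h2 c hc))

theorem inv_cC (a : X) : Inv a (cC a) := inv_of_le_cC le_rfl

theorem inv_cR (a : X) (K : Subgroup X) : Inv a (cR a K) :=
  inv_of_le_cC (cR_le.trans inf_le_right)

theorem inv_cKer {K₁ : Subgroup X} (h1 : Inv a K₁) : Inv a (cKer a K K₁) := by
  unfold cKer
  exact inv_sup (inv_cDK h1) (inv_inf h1 (inv_cR a K))

theorem cKer_le {K₁ : Subgroup X} (h1 : Inv a K₁) : cKer a K K₁ ≤ K₁ := by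
  unfold cKer
  exact sup_le (cDK_le h1) inf_le_left

end B2

end Cfsg.Agent.Helper14.FX
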