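import Mathlib
import Cfsg.Agent.Lib.FX.FXDefs
import Cfsg.Agent.Lib.FX.FXB1
import Cfsg.Agent.Lib.FX.FXB2A
import Cfsg.Agent.Lib.FX.FXB2B

/-! S3816 piece FX-B3 (helper14 design; see plans/S3816_plan.md): normality facts for `[K, a]`,
`[g, a]` and `R`. -/

set_option autoImplicit false

namespace Cfsg.Agent.Helper14.FX

open Subgroup

universe u

variable {X : Type u} [Group X]

section B3
variable {a : X} {K : Subgroup X}

/-- conjugation criterion: a closure is mapped into `M` by conjugation with `k` as soon as its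
generators are -/
theorem fx_b3_conj_closure (k : X) (s : Set X) (M : Subgroup X)
    (h : ∀ x ∈ s, k * x * k⁻¹ ∈ M) : ∀ v ∈ Subgroup.closure s, k * v * k⁻¹ ∈ M := by
  have hle : Subgroup.closure s ≤ M.comap (MulAut.conj k).toMonoidHom := by
    rw [Subgroup.closure_le]
    intro x hx
    show (MulAut.conj k) x ∈ M
    rw [MulAut.conj_apply]
    exact h x hx
  intro v hv
  have := hle hv
  rw [Subgroup.mem_comap] at this
  simpa [MulAut.conj_apply] using this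

/-- an element of `C(a)` commutes with the powers of `a` -/
theorem fx_b3_comm_pow {c : X} (hc : c ∈ cC a) (i : ℕ) : a ^ i * c = c * a ^ i := by
  have h1 : a * c = c * a := mem_cC.mp hc
  have h2 : Commute a c := h1
  exact (h2.pow_left i).eq

/-- conjugating a generator of `[g, a]` by an element of `C(a)` -/
theorem fx_b3_conj_gen {c : X} (hc : c ∈ cC a) (g : X) (i : ℕ) :
    c * (g⁻¹ * (a ^ i * g * (a ^ i)⁻¹)) * c⁻¹ =
      (c * g * c⁻¹)⁻¹ * (a ^ i * (c * g * c⁻¹) * (a ^ i)⁻¹) := by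
  have h1 := fx_b3_comm_pow hc i
  have h2 : (a ^ i)⁻¹ * c⁻¹ = c⁻¹ * (a ^ i)⁻¹ := by
    rw [← mul_inv_rev, ← mul_inv_rev, h1]
  calc c * (g⁻¹ * (a ^ i * g * (a ^ i)⁻¹)) * c⁻¹
      = c * g⁻¹ * a ^ i * g * ((a ^ i)⁻¹ * c⁻¹) := by group
    _ = c * g⁻¹ * a ^ i * g * (c⁻¹ * (a ^ i)⁻¹) := by rw [h2]
    _ = c * g⁻¹ * c⁻¹ * (c * a ^ i) * g * c⁻¹ * (a ^ i)⁻¹ := by group
    _ = c * g⁻¹ * c⁻¹ * (a ^ i * c) * g * c⁻¹ * (a ^ i)⁻¹ := by rw [h1]
    _ = (c * g * c⁻¹)⁻¹ * (a ^ i * (c * g * c⁻¹) * (a ^ i)⁻¹) := by group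

theorem cDK_nml (h : Inv a K) : Nml K (cDK a K) := by
  intro k hk v hv
  refine fx_b3_conj_closure k _ (cDK a K) ?_ v hv
  rintro x ⟨g, hg, i, rfl⟩
  have h1 : k * (g⁻¹ * (a ^ i * g * (a ^ i)⁻¹)) * k⁻¹ =
      ((g * k⁻¹)⁻¹ * (a ^ i * (g * k⁻¹) * (a ^ i)⁻¹)) *
        ((k⁻¹)⁻¹ * (a ^ i * k⁻¹ * (a ^ i)⁻¹))⁻¹ := by group
  rw [h1]
  exact (cDK a K).mul_mem (gen_mem_cDK (K.mul_mem hg (K.inv_mem hk)) i)
    ((cDK a K).inv_mem (gen_mem_cDK (K.inv_mem hk) i))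

theorem cD_conj {c : X} (hc : c ∈ cC a) (g : X) : ∀ y ∈ cD a g, c * y * c⁻¹ ∈ cD a (c * g * c⁻¹) := by
  intro y hy
  refine fx_b3_conj_closure c _ (cD a (c * g * c⁻¹)) ?_ y hy
  rintro x ⟨i, rfl⟩
  rw [fx_b3_conj_gen hc g i]
  exact gen_mem_cD a (c * g * c⁻¹) i

theorem cR_nml (h : Inv a K) : Nml (K ⊓ cC a) (cR a K) := by
  intro c hc v hv
  rw [Subgroup.mem_inf] at hc
  obtain ⟨hcK, hcC⟩ := hc
  have hle : cR a K ≤ (cR a K).comap (MulAut.conj c).toMonoidHom := by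
    unfold cR
    apply iSup_le
    intro g y hy
    rw [Subgroup.mem_inf] at hy
    rw [Subgroup.mem_comap]
    show (MulAut.conj c) y ∈ _
    rw [MulAut.conj_apply]
    have hgK : c * (g : X) * c⁻¹ ∈ K := K.mul_mem (K.mul_mem hcK g.2) (K.inv_mem hcK)
    have h1 : c * y * c⁻¹ ∈ cD a (c * (g : X) * c⁻¹) := cD_conj hcC (g : X) y hy.1
    have h2 : c * y * c⁻¹ ∈ cC a :=
      (cC a).mul_mem ((cC a).mul_mem hcC hy.2) ((cC a).inv_mem hcC)
    exact cD_inf_le_cR hgK (Subgroup.mem_inf.mpr ⟨h1, h2⟩)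
  have := hle hv
  rw [Subgroup.mem_comap] at this
  simpa [MulAut.conj_apply] using this

theorem cDK_nml_fix {K₁ : Subgroup X} (hn : Nml (K ⊓ cC a) K₁) : Nml (K ⊓ cC a) (cDK a K₁) := by
  intro c hc v hv
  have hcC : c ∈ cC a := (Subgroup.mem_inf.mp hc).2
  refine fx_b3_conj_closure c _ (cDK a K₁) ?_ v hv
  rintro x ⟨g, hg, i, rfl⟩
  rw [fx_b3_conj_gen hcC g i]
  exact gen_mem_cDK (hn c hc g hg) i

end B3

end Cfsg.Agent.Helper14.FX
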