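import Mathlib
import Cfsg.Agent.Lib.FX.FXDefs
import Cfsg.Agent.Lib.FX.FXB1
import Cfsg.Agent.Lib.FX.FXB2A
import Cfsg.Agent.Lib.FX.FXB2B
import Cfsg.Agent.Lib.FX.FXB3
import Cfsg.Agent.S0022

/-! S3816 piece FX-B4 (helper14 design; see plans/S3816_plan.md).  STUB: overwrite this file, keeping the
statement(s), namespace, variables and imports (extra imports of Mathlib / landed Lib files allowed; every
EARLIER FX piece is already imported and may be used as a black box). Aux lemmas: fresh names `fx_b4_...`. -/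

set_option autoImplicit false

namespace Cfsg.Agent.Helper14.FX

open Subgroup

universe u

variable {X : Type u} [Group X]

section B4
variable [Finite X] {p : ℕ} [Fact p.Prime] {a : X} {K : Subgroup X}

theorem Hyp.sub (h : Hyp p a K) {K₁ : Subgroup X} (h1 : K₁ ≤ K) (hi : Inv a K₁) : Hyp p a K₁ := by
  refine ⟨h.pow, hi, ?_, ?_⟩
  · haveI := h.solv
    exact Group.isSolvable_of_isSolvable_injective (Subgroup.inclusion_injective h1)
  · exact Nat.Coprime.coprime_dvd_left (Subgroup.card_dvd_of_le h1) h.cop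

/-- an `a`-invariant subgroup is normalised by `zpowers a` -/
theorem fx_b4_zpowers_le_normalizer {N : Subgroup X} (hi : Inv a N) :
    zpowers a ≤ normalizer (N : Set X) := by
  rw [Subgroup.zpowers_le]
  rw [Subgroup.mem_normalizer_iff]
  intro n
  constructor
  · exact hi n
  · intro hn
    have h1 := inv_inv hi _ hn
    have e : a⁻¹ * (a * n * a⁻¹) * a = n := by group
    rwa [e] at h1

theorem fx_b4_coprime (h : Hyp p a K) : (Nat.card (zpowers a)).Coprime (Nat.card K) := by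
  rw [Nat.card_zpowers]
  have h1 : orderOf a ∣ p := orderOf_dvd_of_pow_eq_one h.pow
  exact (Nat.Coprime.coprime_dvd_left h1 h.cop.symm)

/-- every element of `zpowers a` is a natural power -/
theorem fx_b4_mem_zpowers (h : Hyp p a K) {b : X} (hb : b ∈ zpowers a) : ∃ i : ℕ, b = a ^ i := by
  have hfin : IsOfFinOrder a := isOfFinOrder_of_finite a
  have h1 := (hfin.mem_powers_iff_mem_zpowers).mpr hb
  obtain ⟨i, hi⟩ := h1
  exact ⟨i, hi.symm⟩

theorem fx_b4_nml_le_normalizer {N : Subgroup X} (hn : Nml K N) : K ≤ normalizer (N : Set X) := by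
  intro k hk
  rw [Subgroup.mem_normalizer_iff]
  intro n
  constructor
  · exact hn k hk n
  · intro hn'
    have h1 := hn k⁻¹ (K.inv_mem hk) _ hn'
    have e : k⁻¹ * (k * n * k⁻¹) * k⁻¹⁻¹ = n := by group
    rwa [e] at h1

theorem fx_b4_centralizer_le : (K ⊓ centralizer ((zpowers a : Subgroup X) : Set X)) ≤ K ⊓ cC a := by
  apply inf_le_inf_left
  unfold cC
  apply Subgroup.centralizer_le
  intro x hx
  rw [Set.mem_singleton_iff] at hx
  rw [hx]
  exact Subgroup.mem_zpowers a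

/-- the core lifting statement -/
theorem fx_b4_lift (h : Hyp p a K) {N : Subgroup X} (hNK : N ≤ K) (hn : Nml K N) (hi : Inv a N)
    {k : X} (hk : k ∈ K) (hf : ∀ i : ℕ, a ^ i * k * (a ^ i)⁻¹ * k⁻¹ ∈ N) :
    ∃ c ∈ K ⊓ cC a, k⁻¹ * c ∈ N := by
  obtain ⟨c, hc, hcN⟩ := Cfsg.Agent.S0022.result (zpowers a) K (fx_b4_zpowers_le_normalizer h.inv)
    (fx_b4_coprime h) (Or.inr h.solv) N hNK (fx_b4_nml_le_normalizer hn)
    (fx_b4_zpowers_le_normalizer hi) k hk (by
      intro b hb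
      obtain ⟨i, rfl⟩ := fx_b4_mem_zpowers h hb
      exact hf i)
  exact ⟨c, fx_b4_centralizer_le hc, hcN⟩

theorem exists_mul (h : Hyp p a K) : ∀ k ∈ K, ∃ d ∈ cDK a K, ∃ c ∈ K ⊓ cC a, k = d * c := by
  intro k hk
  have hN : Nml K (cDK a K) := cDK_nml h.inv
  obtain ⟨c, hc, hcN⟩ := fx_b4_lift h (cDK_le h.inv) hN (inv_cDK h.inv) hk (by
    intro i
    have h1 := gen_mem_cDK (a := a) (K.inv_mem hk) i
    have e : a ^ i * k * (a ^ i)⁻¹ * k⁻¹ = (k⁻¹⁻¹ * (a ^ i * k⁻¹ * (a ^ i)⁻¹))⁻¹ := by group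
    rw [e]
    exact Subgroup.inv_mem _ h1)
  -- `k = c (k⁻¹ c)⁻¹ = (c (k⁻¹ c)⁻¹ c⁻¹) c`
  refine ⟨c * (k⁻¹ * c)⁻¹ * c⁻¹, hN c hc.1 _ (Subgroup.inv_mem _ hcN), c, hc, ?_⟩
  group

theorem lift_fixed (h : Hyp p a K) {N : Subgroup X} (hNK : N ≤ K) (hn : Nml K N) (hi : Inv a N)
    {k : X} (hk : k ∈ K) (hf : k⁻¹ * (a * k * a⁻¹) ∈ N) : ∃ n ∈ N, k * n ∈ cC a := by
  -- the coset `k N` is stable under all powers of `a`
  have hpow : ∀ i : ℕ, k⁻¹ * (a ^ i * k * (a ^ i)⁻¹) ∈ N := by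
    intro i
    induction i with
    | zero => simp
    | succ i ih =>
      have h1 : a * (k⁻¹ * (a ^ i * k * (a ^ i)⁻¹)) * a⁻¹ ∈ N := hi _ ih
      have e : k⁻¹ * (a ^ (i + 1) * k * (a ^ (i + 1))⁻¹) =
          (k⁻¹ * (a * k * a⁻¹)) * (a * (k⁻¹ * (a ^ i * k * (a ^ i)⁻¹)) * a⁻¹) := by
        rw [pow_succ']
        group
      rw [e]
      exact N.mul_mem hf h1
  obtain ⟨c, hc, hcN⟩ := fx_b4_lift h hNK hn hi hk (by
    intro i
    have h1 := hn k hk _ (hpow i)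
    have e : a ^ i * k * (a ^ i)⁻¹ * k⁻¹ = k * (k⁻¹ * (a ^ i * k * (a ^ i)⁻¹)) * k⁻¹ := by group
    rw [e]
    exact h1)
  refine ⟨k⁻¹ * c, hcN, ?_⟩
  have e : k * (k⁻¹ * c) = c := by group
  rw [e]
  exact hc.2

end B4

end Cfsg.Agent.Helper14.FX
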