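import Mathlib
import Cfsg.Agent.Lib.FX.FXDefs
import Cfsg.Agent.Lib.FX.FXB1
import Cfsg.Agent.Lib.FX.FXB2A
import Cfsg.Agent.Lib.FX.FXB2B
import Cfsg.Agent.Lib.FX.FXB3
import Cfsg.Agent.Lib.FX.FXB4

/-! S3816 piece FX-B5 (helper14 design; see plans/S3816_plan.md).  STUB: overwrite this file, keeping the
statement(s), namespace, variables and imports (extra imports of Mathlib / landed Lib files allowed; every
EARLIER FX piece is already imported and may be used as a black box). Aux lemmas: fresh names `fx_b5_...`. -/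

set_option autoImplicit false

namespace Cfsg.Agent.Helper14.FX

open Subgroup

universe u

variable {X : Type u} [Group X]

section B4
variable [Finite X] {p : ℕ} [Fact p.Prime] {a : X} {K : Subgroup X}

theorem cDK_cDK (h : Hyp p a K) : cDK a (cDK a K) = cDK a K := by
  apply le_antisymm
  · exact cDK_le (inv_cDK h.inv)
  · rw [cDK_le_iff]
    intro k hk i
    obtain ⟨d, hd, c, hc, rfl⟩ := exists_mul h k hk
    have hnD : Nml (K ⊓ cC a) (cDK a K) := fun k' hk' v hv => cDK_nml h.inv k' hk'.1 v hv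
    have hn2 : Nml (K ⊓ cC a) (cDK a (cDK a K)) := cDK_nml_fix hnD
    have hgen : d⁻¹ * (a ^ i * d * (a ^ i)⁻¹) ∈ cDK a (cDK a K) := gen_mem_cDK hd i
    have hac : a * c = c * a := mem_cC.mp hc.2
    have hcomm : Commute (a ^ i) c := Commute.pow_left hac i
    have hcA : c * (a ^ i)⁻¹ = (a ^ i)⁻¹ * c := (hcomm.inv_left.eq).symm
    have hconj := hn2 c⁻¹ ((K ⊓ cC a).inv_mem hc) _ hgen
    have e : (d * c)⁻¹ * (a ^ i * (d * c) * (a ^ i)⁻¹) =
        c⁻¹ * (d⁻¹ * (a ^ i * d * (a ^ i)⁻¹)) * c⁻¹⁻¹ := by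
      rw [mul_inv_rev, _root_.inv_inv]
      simp only [mul_assoc]
      rw [hcA]
    rw [e]
    exact hconj

end B4

end Cfsg.Agent.Helper14.FX
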