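import Mathlib
import Cfsg.Agent.Lib.FX.FXDefs
import Cfsg.Agent.Lib.FX.FXB1
import Cfsg.Agent.Lib.FX.FXB2A
import Cfsg.Agent.Lib.FX.FXB2B
import Cfsg.Agent.Lib.FX.FXB3
import Cfsg.Agent.Lib.FX.FXB4
import Cfsg.Agent.Lib.FX.FXB5

/-! S3816 piece FX-B6 (helper14 design; see plans/S3816_plan.md).  STUB: overwrite this file, keeping the
statement(s), namespace, variables and imports (extra imports of Mathlib / landed Lib files allowed; every
EARLIER FX piece is already imported and may be used as a black box). Aux lemmas: fresh names `fx_b6_...`. -/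

set_option autoImplicit false

namespace Cfsg.Agent.Helper14.FX

open Subgroup

universe u

variable {X : Type u} [Group X]

section B6aux
variable {a : X} {K : Subgroup X}

/-- conjugation by `a ^ i` as an endomorphism of the `a`-invariant subgroup `K` -/
def fx_b6_conj (hinv : Inv a K) (i : ℕ) : ↥K →* ↥K where
  toFun k := ⟨a ^ i * k * (a ^ i)⁻¹, inv_pow hinv i k k.2⟩
  map_one' := by
    apply Subtype.ext
    simp
  map_mul' x y := by
    apply Subtype.ext
    simp [mul_assoc]

theorem fx_b6_conj_coe (hinv : Inv a K) (i : ℕ) (k : ↥K) :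
    ((fx_b6_conj hinv i k : ↥K) : X) = a ^ i * k * (a ^ i)⁻¹ := rfl

theorem fx_b6_norm_mem_aux {p : ℕ} (hpow : a ^ p = 1) (hinv : Inv a K)
    (hK : cDK a K = K) {M : Subgroup X} (hn : Nml K M)
    (hc : ∀ x ∈ K, ∀ y ∈ K, x * y * x⁻¹ * y⁻¹ ∈ M) :
    ∀ k ∈ K, ((List.range p).map (fun i => a ^ i * k * (a ^ i)⁻¹)).prod ∈ M := by
  classical
  have hMn : (M.subgroupOf K).Normal := by
    constructor
    intro n hn' g
    rw [Subgroup.mem_subgroupOf] at hn' ⊢
    have := hn g g.2 n hn'
    simpa using this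
  let _ic : CommGroup (↥K ⧸ M.subgroupOf K) :=
    { (inferInstance : Group (↥K ⧸ M.subgroupOf K)) with
      mul_comm := by
        intro x y
        induction x using QuotientGroup.induction_on with
        | _ x =>
          induction y using QuotientGroup.induction_on with
          | _ y =>
            rw [← QuotientGroup.mk_mul, ← QuotientGroup.mk_mul, QuotientGroup.eq,
              Subgroup.mem_subgroupOf]
            have := hc ((y : X)⁻¹) (K.inv_mem y.2) ((x : X)⁻¹) (K.inv_mem x.2)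
            simpa [mul_assoc] using this }
  let φ : ℕ → ↥K →* (↥K ⧸ M.subgroupOf K) :=
    fun i => (QuotientGroup.mk' (M.subgroupOf K)).comp (fx_b6_conj hinv i)
  let ν : ↥K → (↥K ⧸ M.subgroupOf K) := fun k => ∏ i ∈ Finset.range p, φ i k
  have hνmul : ∀ x y, ν (x * y) = ν x * ν y := by
    intro x y
    simp only [ν, map_mul, Finset.prod_mul_distrib]
  have hνone : ν 1 = 1 := by
    simp only [ν, map_one, Finset.prod_const_one]
  have hφp : ∀ g, φ p g = φ 0 g := by
    intro g
    simp only [φ, MonoidHom.comp_apply]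
    congr 1
    apply Subtype.ext
    simp [fx_b6_conj_coe, hpow]
  have hφsucc : ∀ i g, φ (i + 1) g = φ i (fx_b6_conj hinv 1 g) := by
    intro i g
    simp only [φ, MonoidHom.comp_apply]
    congr 1
    apply Subtype.ext
    simp [fx_b6_conj_coe, pow_succ, mul_assoc]
  have hν1 : ∀ g, ν (fx_b6_conj hinv 1 g) = ν g := by
    intro g
    have e1 : ∏ i ∈ Finset.range (p + 1), φ i g =
        (∏ i ∈ Finset.range p, φ (i + 1) g) * φ 0 g := Finset.prod_range_succ' _ _
    have e2 : ∏ i ∈ Finset.range (p + 1), φ i g =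
        (∏ i ∈ Finset.range p, φ i g) * φ p g := Finset.prod_range_succ _ _
    rw [e2, hφp] at e1
    have e3 := mul_right_cancel e1
    show ∏ i ∈ Finset.range p, φ i (fx_b6_conj hinv 1 g) = ∏ i ∈ Finset.range p, φ i g
    rw [e3]
    exact Finset.prod_congr rfl (fun i _ => (hφsucc i g).symm)
  have hνj : ∀ j g, ν (fx_b6_conj hinv j g) = ν g := by
    intro j
    induction j with
    | zero =>
      intro g
      congr 1
      apply Subtype.ext
      simp [fx_b6_conj_coe]
    | succ j ih =>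
      intro g
      have e : fx_b6_conj hinv (j + 1) g = fx_b6_conj hinv 1 (fx_b6_conj hinv j g) := by
        apply Subtype.ext
        simp [fx_b6_conj_coe, pow_succ', mul_assoc]
      rw [e, hν1, ih]
  let νh : ↥K →* (↥K ⧸ M.subgroupOf K) := MonoidHom.mk' ν hνmul
  have hker : cDK a K ≤ (MonoidHom.ker νh).map K.subtype := by
    rw [cDK_le_iff]
    intro g hg j
    refine ⟨(⟨g, hg⟩ : ↥K)⁻¹ * fx_b6_conj hinv j ⟨g, hg⟩, ?_, rfl⟩
    rw [SetLike.mem_coe, MonoidHom.mem_ker]
    show ν _ = 1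
    rw [hνmul, hνj, ← hνmul, inv_mul_cancel, hνone]
  intro k hk
  rw [hK] at hker
  obtain ⟨k', hk'ker, hk'eq⟩ := hker hk
  have hk'k : k' = ⟨k, hk⟩ := Subtype.ext hk'eq
  have hk'1 : ν ⟨k, hk⟩ = 1 := by
    rw [← hk'k]
    exact hk'ker
  have hlist : ∀ n : ℕ, ∃ hmem : ((List.range n).map (fun i => a ^ i * k * (a ^ i)⁻¹)).prod ∈ K,
      QuotientGroup.mk' (M.subgroupOf K) ⟨_, hmem⟩ = ∏ i ∈ Finset.range n, φ i ⟨k, hk⟩ := by
    intro n
    induction n with
    | zero =>
      refine ⟨by simp, ?_⟩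
      simp only [List.range_zero, List.map_nil, List.prod_nil, Finset.range_zero,
        Finset.prod_empty]
      exact map_one _
    | succ n ih =>
      obtain ⟨hmem, heq⟩ := ih
      have hmem' : ((List.range (n + 1)).map (fun i => a ^ i * k * (a ^ i)⁻¹)).prod ∈ K := by
        rw [List.range_succ, List.map_append, List.prod_append]
        simp only [List.map_cons, List.map_nil, List.prod_cons, List.prod_nil, mul_one]
        exact K.mul_mem hmem (inv_pow hinv n k hk)
      refine ⟨hmem', ?_⟩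
      rw [Finset.prod_range_succ, ← heq]
      show _ = QuotientGroup.mk' (M.subgroupOf K) _ *
        QuotientGroup.mk' (M.subgroupOf K) (fx_b6_conj hinv n ⟨k, hk⟩)
      rw [← map_mul]
      congr 1
      apply Subtype.ext
      simp [List.range_succ, fx_b6_conj_coe]
  obtain ⟨hmem, heq⟩ := hlist p
  have h1 : QuotientGroup.mk' (M.subgroupOf K) ⟨_, hmem⟩ = 1 := by
    rw [heq]
    exact hk'1
  rw [QuotientGroup.mk'_apply, QuotientGroup.eq_one_iff, Subgroup.mem_subgroupOf] at h1
  exact h1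

end B6aux

section B6
variable [Finite X] {p : ℕ} [Fact p.Prime] {a : X} {K : Subgroup X}

theorem norm_mem (h : Hyp p a K) (hK : cDK a K = K) {M : Subgroup X} (hMK : M ≤ K) (hn : Nml K M)
    (hi : Inv a M) (hc : ∀ x ∈ K, ∀ y ∈ K, x * y * x⁻¹ * y⁻¹ ∈ M) :
    ∀ k ∈ K, ((List.range p).map (fun i => a ^ i * k * (a ^ i)⁻¹)).prod ∈ M :=
  fx_b6_norm_mem_aux h.pow h.inv hK hn hc

theorem fix_le_of_comm (h : Hyp p a K) (hK : cDK a K = K) {M : Subgroup X} (hMK : M ≤ K) (hn : Nml K M)
    (hi : Inv a M) (hc : ∀ x ∈ K, ∀ y ∈ K, x * y * x⁻¹ * y⁻¹ ∈ M) : K ⊓ cC a ≤ M := by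
  rintro c ⟨hcK, hca⟩
  have hac : a * c = c * a := mem_cC.mp hca
  have hfix : ∀ i : ℕ, a ^ i * c * (a ^ i)⁻¹ = c := by
    intro i
    have hcomm : Commute (a ^ i) c := Commute.pow_left hac i
    rw [hcomm.eq, mul_inv_cancel_right]
  have hnorm := norm_mem h hK hMK hn hi hc c hcK
  have hcp : c ^ p ∈ M := by
    have e : (List.range p).map (fun i => a ^ i * c * (a ^ i)⁻¹) = List.replicate p c := by
      rw [List.eq_replicate_iff]
      refine ⟨by simp, ?_⟩
      intro b hb
      rw [List.mem_map] at hb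
      obtain ⟨i, -, rfl⟩ := hb
      exact hfix i
    rw [e, List.prod_replicate] at hnorm
    exact hnorm
  -- `c = (c ^ p) ^ z` for a suitable integer `z`
  have hz : ((⟨c, hcK⟩ : ↥K) ^ p) ^ ((Nat.card ↥K).gcdB p) = ⟨c, hcK⟩ :=
    (powCoprime h.cop).left_inv (⟨c, hcK⟩ : ↥K)
  have hz' : (c ^ p) ^ ((Nat.card ↥K).gcdB p) = c := by
    have := congrArg (Subtype.val) hz
    rw [Subgroup.coe_zpow, Subgroup.coe_pow] at this
    exact this
  rw [← hz']
  exact M.zpow_mem hcp _

theorem fix_eq_bot_of_comm (h : Hyp p a K) (hK : cDK a K = K) (hc : ∀ x ∈ K, ∀ y ∈ K, x * y = y * x) :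
    K ⊓ cC a = ⊥ := by
  rw [eq_bot_iff]
  apply fix_le_of_comm h hK bot_le
  · intro k _ v hv
    rw [Subgroup.mem_bot] at hv ⊢
    rw [hv, mul_one, mul_inv_cancel]
  · intro k hk
    rw [Subgroup.mem_bot] at hk ⊢
    rw [hk, mul_one, mul_inv_cancel]
  · intro x hx y hy
    rw [Subgroup.mem_bot, hc x hx y hy]
    group

end B6

end Cfsg.Agent.Helper14.FX
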