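import Mathlib
import Cfsg.Agent.Lib.FX.FXDefs
import Cfsg.Agent.Lib.FX.FXB1
import Cfsg.Agent.Lib.FX.FXB2A
import Cfsg.Agent.Lib.FX.FXB2B
import Cfsg.Agent.Lib.FX.FXB3
import Cfsg.Agent.Lib.FX.FXB4
import Cfsg.Agent.Lib.FX.FXB5
import Cfsg.Agent.Lib.FX.FXB6

/-! S3816 piece FX-Q1 (helper14 design; see plans/S3816_plan.md), implemented by helper11.
Transport of `cD`, `cDK`, `cC`, `Inv`, `Hyp` along a homomorphism. -/

set_option autoImplicit false

namespace Cfsg.Agent.Helper14.FX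

open Subgroup

universe u

variable {X : Type u} [Group X]

section Q
variable {p : ℕ} [Fact p.Prime]

theorem map_cD {Z : Type*} [Group Z] (f : X →* Z) (a g : X) : (cD a g).map f = cD (f a) (f g) := by
  unfold cD
  rw [MonoidHom.map_closure]
  congr 1
  ext c
  constructor
  · rintro ⟨c, ⟨i, rfl⟩, rfl⟩
    exact ⟨i, by simp⟩
  · rintro ⟨i, rfl⟩
    exact ⟨g⁻¹ * (a ^ i * g * (a ^ i)⁻¹), ⟨i, rfl⟩, by simp⟩

theorem map_cDK {Z : Type*} [Group Z] (f : X →* Z) (a : X) (K : Subgroup X) :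
    (cDK a K).map f = cDK (f a) (K.map f) := by
  unfold cDK
  rw [MonoidHom.map_closure]
  congr 1
  ext c
  constructor
  · rintro ⟨c, ⟨g, hg, i, rfl⟩, rfl⟩
    exact ⟨f g, Subgroup.mem_map_of_mem f hg, i, by simp⟩
  · rintro ⟨_, ⟨g, hg, rfl⟩, i, rfl⟩
    exact ⟨g⁻¹ * (a ^ i * g * (a ^ i)⁻¹), ⟨g, hg, i, rfl⟩, by simp⟩

theorem map_cC_le {Z : Type*} [Group Z] (f : X →* Z) (a : X) : (cC a).map f ≤ cC (f a) := by
  unfold cC
  rintro _ ⟨x, hx, rfl⟩
  have hx' : x ∈ centralizer ({a} : Set X) := hx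
  rw [Subgroup.mem_centralizer_singleton_iff] at hx' ⊢
  rw [← map_mul, ← map_mul, hx']

theorem Inv.map {Z : Type*} [Group Z] (f : X →* Z) {a : X} {K : Subgroup X} (h : Inv a K) :
    Inv (f a) (K.map f) := by
  rintro _ ⟨k, hk, rfl⟩
  refine ⟨a * k * a⁻¹, h k hk, ?_⟩
  simp

theorem Hyp.map [Finite X] {Z : Type*} [Group Z] (f : X →* Z) {a : X} {K : Subgroup X} (h : Hyp p a K) :
    Hyp p (f a) (K.map f) := by
  refine ⟨?_, Inv.map f h.inv, ?_, ?_⟩
  · rw [← map_pow, h.pow, map_one]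
  · haveI := h.solv
    exact Group.isSolvable_of_surjective (f.subgroupMap_surjective K)
  · exact Nat.Coprime.coprime_dvd_left (Subgroup.card_map_dvd K f) h.cop

end Q

end Cfsg.Agent.Helper14.FX
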