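import Mathlib
import Cfsg.Agent.Lib.FX.FXDefs
import Cfsg.Agent.Lib.FX.FXB1
import Cfsg.Agent.Lib.FX.FXB2A
import Cfsg.Agent.Lib.FX.FXB2B
import Cfsg.Agent.Lib.FX.FXB3
import Cfsg.Agent.Lib.FX.FXB4
import Cfsg.Agent.Lib.FX.FXB5
import Cfsg.Agent.Lib.FX.FXB6
import Cfsg.Agent.Lib.FX.FXQ1

/-! S3816 piece FX-Q1B (helper14 design; see plans/S3816_plan.md).  Proved by helper26. -/

set_option autoImplicit false

namespace Cfsg.Agent.Helper14.FX

open Subgroup

universe u

variable {X : Type u} [Group X]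

section Q
variable {p : ℕ} [Fact p.Prime]

theorem map_cC_of_injective {Z : Type*} [Group Z] (f : X →* Z) (hf : Function.Injective f) (a : X) :
    (cC a).map f = cC (f a) ⊓ f.range := by
  apply le_antisymm
  · refine le_inf (map_cC_le f a) ?_
    rintro z ⟨x, -, rfl⟩
    exact ⟨x, rfl⟩
  · rintro z ⟨hz, ⟨x, rfl⟩⟩
    refine ⟨x, ?_, rfl⟩
    have h1 : f a * f x = f x * f a := mem_cC.1 hz
    rw [← map_mul, ← map_mul] at h1
    exact mem_cC.2 (hf h1)

theorem fx_q1b_map_inf {Z : Type*} [Group Z] (f : X →* Z) (hf : Function.Injective f) (a : X)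
    (D : Subgroup X) : (D ⊓ cC a).map f = D.map f ⊓ cC (f a) := by
  rw [Subgroup.map_inf _ _ f hf, map_cC_of_injective f hf a]
  apply le_antisymm
  · exact le_inf inf_le_left (inf_le_right.trans inf_le_left)
  · refine le_inf inf_le_left (le_inf inf_le_right ?_)
    refine inf_le_left.trans ?_
    rintro z ⟨x, -, rfl⟩
    exact ⟨x, rfl⟩

theorem map_cR_of_injective {Z : Type*} [Group Z] (f : X →* Z) (hf : Function.Injective f) (a : X)
    (K : Subgroup X) : (cR a K).map f = cR (f a) (K.map f) := by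
  unfold cR
  rw [Subgroup.map_iSup]
  apply le_antisymm
  · apply iSup_le
    intro g
    rw [fx_q1b_map_inf f hf a, map_cD]
    exact le_iSup (fun g' : K.map f => cD (f a) (g' : Z) ⊓ cC (f a))
      ⟨f g.1, Subgroup.mem_map_of_mem f g.2⟩
  · apply iSup_le
    rintro ⟨g', g, hg, rfl⟩
    have h1 : cD (f a) (f g) ⊓ cC (f a) = (cD a g ⊓ cC a).map f := by
      rw [fx_q1b_map_inf f hf a, map_cD]
    show cD (f a) (f g) ⊓ cC (f a) ≤ _
    rw [h1]
    exact le_iSup (fun g : K => (cD a (g : X) ⊓ cC a).map f) ⟨g, hg⟩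

theorem good_map_iff {Z : Type*} [Group Z] (f : X →* Z) (hf : Function.Injective f) (a : X)
    (K : Subgroup X) : Good (f a) (K.map f) ↔ Good a K := by
  unfold Good
  rw [← map_cR_of_injective f hf a K, ← map_cDK, ← fx_q1b_map_inf f hf a]
  exact Subgroup.map_le_map_iff_of_injective hf

end Q

end Cfsg.Agent.Helper14.FX
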