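import Mathlib
import Cfsg.Agent.Lib.FX.FXDefs
import Cfsg.Agent.Lib.FX.FXB1
import Cfsg.Agent.Lib.FX.FXB2A
import Cfsg.Agent.Lib.FX.FXB2B
import Cfsg.Agent.Lib.FX.FXB3
import Cfsg.Agent.Lib.FX.FXB4
import Cfsg.Agent.Lib.FX.FXB5
import Cfsg.Agent.Lib.FX.FXB6
import Cfsg.Agent.Lib.FX.FXQ1
import Cfsg.Agent.Lib.FX.FXQ1B

/-! S3816 piece FX-QGEN (helper14 design; see plans/S3816_plan.md).  STUB: overwrite this file, keeping the
statement(s), namespace, variables and imports (extra imports of Mathlib / landed Lib files allowed; every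
EARLIER FX piece is already imported and may be used as a black box). Aux lemmas: fresh names `fx_qgen_...`. -/

set_option autoImplicit false

namespace Cfsg.Agent.Helper14.FX

open Subgroup

universe u

variable {X : Type u} [Group X]

section Q
variable {p : ℕ} [Fact p.Prime]

theorem quot_gen [Finite X] {Z : Type*} [Group Z] (f : X →* Z)
    {a : X} {K : Subgroup X} (h : Hyp p a K) (hker : f.ker ≤ K) (hK : cDK a K = K)
    (hg : Good (f a) (K.map f)) :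
    ∀ c ∈ K ⊓ cC a, ∃ y ∈ cR a K, ∃ n ∈ f.ker ⊓ cC a, c = y * n := by
  intro c hc
  obtain ⟨hcK, hcC⟩ := Subgroup.mem_inf.1 hc
  have h1 : f c ∈ cDK (f a) (K.map f) := by
    rw [← map_cDK, hK]; exact Subgroup.mem_map_of_mem f hcK
  have h2 : f c ∈ cC (f a) := map_cC_le f a (Subgroup.mem_map_of_mem f hcC)
  have h3 : f c ∈ cR (f a) (K.map f) := hg (Subgroup.mem_inf.2 ⟨h1, h2⟩)
  have key : cR (f a) (K.map f) ≤ (cR a K).map f := by
    unfold cR
    apply iSup_le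
    rintro ⟨g', hg'⟩
    obtain ⟨g, hgK, rfl⟩ := Subgroup.mem_map.1 hg'
    intro y' hy'
    obtain ⟨hy'D, hy'C⟩ := Subgroup.mem_inf.1 hy'
    have hy'D2 : y' ∈ (cD a g).map f := by rw [map_cD]; exact hy'D
    obtain ⟨y₀, hy₀, rfl⟩ := Subgroup.mem_map.1 hy'D2
    have hypD : Hyp p a (cD a g) := h.sub (cD_le h.inv hgK) (inv_cD a g)
    have hf : y₀⁻¹ * (a * y₀ * a⁻¹) ∈ f.ker ⊓ cD a g := by
      refine Subgroup.mem_inf.2 ⟨?_, ?_⟩
      · rw [MonoidHom.mem_ker]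
        simp only [map_mul, map_inv]
        have := mem_cC.1 hy'C
        rw [this]; group
      · exact mul_mem (inv_mem hy₀) (inv_cD a g y₀ hy₀)
    have hnml : Nml (cD a g) (f.ker ⊓ cD a g) := by
      intro k hk v hv
      obtain ⟨hv1, hv2⟩ := Subgroup.mem_inf.1 hv
      refine Subgroup.mem_inf.2 ⟨?_, mul_mem (mul_mem hk hv2) (inv_mem hk)⟩
      exact (MonoidHom.normal_ker f).conj_mem v hv1 k
    have hinv : Inv a (f.ker ⊓ cD a g) := by
      intro k hk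
      obtain ⟨hk1, hk2⟩ := Subgroup.mem_inf.1 hk
      exact Subgroup.mem_inf.2 ⟨(MonoidHom.normal_ker f).conj_mem k hk1 a, inv_cD a g k hk2⟩
    obtain ⟨n, hn, hyn⟩ := lift_fixed hypD (N := f.ker ⊓ cD a g) inf_le_right hnml hinv hy₀ hf
    obtain ⟨hn1, hn2⟩ := Subgroup.mem_inf.1 hn
    refine Subgroup.mem_map.2 ⟨y₀ * n, ?_, ?_⟩
    · have : y₀ * n ∈ cD a g ⊓ cC a := Subgroup.mem_inf.2 ⟨mul_mem hy₀ hn2, hyn⟩
      exact le_iSup (fun g : K => cD a (g : X) ⊓ cC a) ⟨g, hgK⟩ this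
    · rw [map_mul, (MonoidHom.mem_ker).1 hn1, mul_one]
  obtain ⟨y, hy, hfy⟩ := Subgroup.mem_map.1 (key h3)
  have hyC : y ∈ cC a := (cR_le (a := a) (K := K) hy).2
  refine ⟨y, hy, y⁻¹ * c, Subgroup.mem_inf.2 ⟨?_, mul_mem (inv_mem hyC) hcC⟩, by group⟩
  rw [MonoidHom.mem_ker, map_mul, map_inv, hfy, inv_mul_cancel]

end Q

end Cfsg.Agent.Helper14.FX
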