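import Mathlib
import Cfsg.Agent.Lib.FX.FXDefs
import Cfsg.Agent.Lib.FX.FXB1
import Cfsg.Agent.Lib.FX.FXB2A
import Cfsg.Agent.Lib.FX.FXB2B
import Cfsg.Agent.Lib.FX.FXB3
import Cfsg.Agent.Lib.FX.FXB4
import Cfsg.Agent.Lib.FX.FXB5
import Cfsg.Agent.Lib.FX.FXB6
import Cfsg.Agent.Lib.FX.FXQ1
import Cfsg.Agent.Lib.FX.FXQ1B
import Cfsg.Agent.Lib.FX.FXQGEN

/-! S3816 piece FX-QSTEP (helper14 design; see plans/S3816_plan.md).  STUB: overwrite this file, keeping the
statement(s), namespace, variables and imports (extra imports of Mathlib / landed Lib files allowed; every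
EARLIER FX piece is already imported and may be used as a black box). Aux lemmas: fresh names `fx_qstep_...`. -/

set_option autoImplicit false

namespace Cfsg.Agent.Helper14.FX

open Subgroup

universe u

variable {X : Type u} [Group X]

section Q
variable {p : ℕ} [Fact p.Prime]

theorem fx_qstep_card_map_lt {Y : Type*} [Group Y] [Finite Y] {Z : Type*} [Group Z] (f : Y →* Z)
    (KY : Subgroup Y) (hker : f.ker ≤ KY) (hne : f.ker ≠ ⊥) : Nat.card (KY.map f) < Nat.card KY := by
  have h2 : f.ker.relIndex KY = Nat.card (KY.map f) := Subgroup.relIndex_ker KY f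
  have h3 : Nat.card (f.ker.subgroupOf KY) * (f.ker.subgroupOf KY).index = Nat.card KY :=
    Subgroup.card_mul_index _
  have h4 : (f.ker.subgroupOf KY).index = Nat.card (KY.map f) := h2
  have h5 : 1 < Nat.card (f.ker.subgroupOf KY) := by
    rw [Nat.card_congr (Subgroup.subgroupOfEquivOfLe hker).toEquiv]
    exact (Subgroup.one_lt_card_iff_ne_bot _).2 hne
  haveI : Finite ↥(KY.map f) := Finite.of_surjective (fun k : KY => (⟨f k, Subgroup.mem_map_of_mem f k.2⟩ : ↥(KY.map f)))
    (by rintro ⟨z, hz⟩; obtain ⟨k, hk, rfl⟩ := Subgroup.mem_map.1 hz; exact ⟨⟨k, hk⟩, rfl⟩)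
  have h6 : 0 < Nat.card (KY.map f) := Nat.card_pos
  rw [h4] at h3
  nlinarith

theorem quot_step [Finite X] {a : X} {K : Subgroup X} (h : MinCE p a K) (hK : cDK a K = K)
    {N : Subgroup X} (hNK : N ≤ K) (hn : Nml K N) (hi : Inv a N) (hne : N ≠ ⊥) :
    ∀ c ∈ K ⊓ cC a, ∃ y ∈ cR a K, ∃ n ∈ N ⊓ cC a, c = y * n := by
  classical
  set Y : Subgroup X := Subgroup.normalizer (N : Set X) with hYdef
  have hKY : K ≤ Y := by
    intro k hk
    rw [hYdef, Subgroup.mem_normalizer_iff]
    intro x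
    constructor
    · intro hx; exact hn k hk x hx
    · intro hx
      have := hn k⁻¹ (inv_mem hk) _ hx
      simpa [mul_assoc] using this
  have haY : a ∈ Y := by
    rw [hYdef, Subgroup.mem_normalizer_iff]
    intro x
    constructor
    · intro hx; exact hi x hx
    · intro hx
      have := inv_inv hi _ hx
      simpa [mul_assoc] using this
  have hNY : N ≤ Y := Subgroup.le_normalizer
  let ι : ↥Y →* X := Y.subtype
  have hι : Function.Injective ι := Subgroup.subtype_injective Y
  let aY : ↥Y := ⟨a, haY⟩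
  let KY : Subgroup ↥Y := K.subgroupOf Y
  let NY : Subgroup ↥Y := N.subgroupOf Y
  haveI : NY.Normal := Subgroup.normal_in_normalizer
  have hmapK : KY.map ι = K := Subgroup.map_subgroupOf_eq_of_le hKY
  have hιa : ι aY = a := rfl
  let f : ↥Y →* (↥Y ⧸ NY) := QuotientGroup.mk' NY
  have hkerf : f.ker = NY := QuotientGroup.ker_mk' NY
  -- hypotheses for KY
  have hypY : Hyp p aY KY := by
    refine ⟨?_, ?_, ?_, ?_⟩
    · apply Subtype.ext; simpa using h.hyp.pow
    · intro k hk
      rw [Subgroup.mem_subgroupOf] at hk ⊢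
      exact h.hyp.inv _ hk
    · haveI := h.hyp.solv
      exact Group.isSolvable_of_isSolvable_injective (f := (Subgroup.subgroupOfEquivOfLe hKY).toMonoidHom)
        (Subgroup.subgroupOfEquivOfLe hKY).injective
    · rw [Nat.card_congr (Subgroup.subgroupOfEquivOfLe hKY).toEquiv]; exact h.hyp.cop
  have hcardKY : Nat.card KY = Nat.card K :=
    Nat.card_congr (Subgroup.subgroupOfEquivOfLe hKY).toEquiv
  have hkerle : f.ker ≤ KY := by
    rw [hkerf]
    intro x hx
    rw [Subgroup.mem_subgroupOf] at hx ⊢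
    exact hNK hx
  have hkerne : f.ker ≠ ⊥ := by
    rw [hkerf]
    intro hbot
    apply hne
    rw [eq_bot_iff]
    intro x hx
    have : (⟨x, hNY hx⟩ : ↥Y) ∈ NY := Subgroup.mem_subgroupOf.2 hx
    rw [hbot, Subgroup.mem_bot] at this
    rw [Subgroup.mem_bot]
    exact congrArg Subtype.val this
  have hlt : Nat.card (KY.map f) < Nat.card K := by
    rw [← hcardKY]; exact fx_qstep_card_map_lt f KY hkerle hkerne
  have hgood : Good (f aY) (KY.map f) := h.ih _ (f aY) (KY.map f) hlt (Hyp.map f hypY)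
  have hKYeq : cDK aY KY = KY := by
    apply Subgroup.map_injective hι
    rw [map_cDK, hmapK]
    exact hK
  have hq := quot_gen f hypY hkerle hKYeq hgood
  intro c hc
  obtain ⟨hcK, hcC⟩ := Subgroup.mem_inf.1 hc
  have hc' : (⟨c, hKY hcK⟩ : ↥Y) ∈ KY ⊓ cC aY := by
    refine Subgroup.mem_inf.2 ⟨Subgroup.mem_subgroupOf.2 hcK, ?_⟩
    rw [mem_cC]
    apply Subtype.ext
    exact mem_cC.1 hcC
  obtain ⟨y', hy', n', hn', hcyn⟩ := hq _ hc'
  refine ⟨ι y', ?_, ι n', ?_, ?_⟩
  · have : ι y' ∈ (cR aY KY).map ι := Subgroup.mem_map_of_mem ι hy'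
    rw [map_cR_of_injective ι hι, hmapK] at this
    exact this
  · obtain ⟨hn1, hn2⟩ := Subgroup.mem_inf.1 hn'
    refine Subgroup.mem_inf.2 ⟨?_, ?_⟩
    · rw [hkerf] at hn1
      exact Subgroup.mem_subgroupOf.1 hn1
    · have : ι n' ∈ (cC aY).map ι := Subgroup.mem_map_of_mem ι hn2
      exact map_cC_le ι aY this
  · have := congrArg ι hcyn
    rw [map_mul] at this
    exact this

end Q

end Cfsg.Agent.Helper14.FX
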