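import Mathlib
import Cfsg.Agent.Lib.FX.FXDefs
import Cfsg.Agent.Lib.FX.FXB1
import Cfsg.Agent.Lib.FX.FXB2A
import Cfsg.Agent.Lib.FX.FXB2B
import Cfsg.Agent.Lib.FX.FXB3
import Cfsg.Agent.Lib.FX.FXB4
import Cfsg.Agent.Lib.FX.FXB5
import Cfsg.Agent.Lib.FX.FXB6
import Cfsg.Agent.Lib.FX.FXQ1
import Cfsg.Agent.Lib.FX.FXQ1B
import Cfsg.Agent.Lib.FX.FXQGEN
import Cfsg.Agent.Lib.FX.FXQSTEP

/-! S3816 piece FX-M1 (helper14 design; see plans/S3816_plan.md).  Proved by helper27. -/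

set_option autoImplicit false

namespace Cfsg.Agent.Helper14.FX

open Subgroup

universe u

variable {X : Type u} [Group X]

section M
variable [Finite X] {p : ℕ} [Fact p.Prime] {a : X} {K V : Subgroup X} {r : ℕ}

/-- the induction hypothesis, for proper `a`-invariant subgroups of `K` inside the same ambient group -/
theorem fx_m1_good_sub (h : MinCE p a K) {K₁ : Subgroup X} (h1 : K₁ ≤ K) (hi : Inv a K₁)
    (hne : K₁ ≠ K) : Good a K₁ := by
  have hlt : Nat.card K₁ < Nat.card K := by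
    by_contra hge
    exact hne (Subgroup.eq_of_le_of_card_ge h1 (not_lt.mp hge))
  exact h.ih X a K₁ hlt (h.hyp.sub h1 hi)

theorem cDK_eq (h : MinCE p a K) : cDK a K = K := by
  by_contra hne
  have hle : cDK a K ≤ K := cDK_le h.hyp.inv
  have hg : Good a (cDK a K) := fx_m1_good_sub h hle (inv_cDK h.hyp.inv) hne
  apply h.bad
  unfold Good at hg ⊢
  rw [cDK_cDK h.hyp] at hg
  exact hg.trans (cR_mono hle)

theorem sub_le (h : MinCE p a K) {K₁ : Subgroup X} (h1 : K₁ ≤ K) (hi : Inv a K₁) (hne : K₁ ≠ K) :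
    cDK a K₁ ⊓ cC a ≤ cR a K :=
  (fx_m1_good_sub h h1 hi hne).trans (cR_mono h1)

theorem fix_not_le (h : MinCE p a K) : ¬ (K ⊓ cC a ≤ cR a K) := by
  intro hle
  apply h.bad
  unfold Good
  rw [cDK_eq h]
  exact hle

theorem K_ne_bot (h : MinCE p a K) : K ≠ ⊥ := by
  intro hbot
  apply fix_not_le h
  rw [hbot]
  exact inf_le_left.trans bot_le

end M

end Cfsg.Agent.Helper14.FX
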