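import Mathlib
import Cfsg.Agent.Lib.FX.FXDefs
import Cfsg.Agent.Lib.FX.FXB1
import Cfsg.Agent.Lib.FX.FXB2A
import Cfsg.Agent.Lib.FX.FXB2B
import Cfsg.Agent.Lib.FX.FXB3
import Cfsg.Agent.Lib.FX.FXB4
import Cfsg.Agent.Lib.FX.FXB5
import Cfsg.Agent.Lib.FX.FXB6
import Cfsg.Agent.Lib.FX.FXQ1
import Cfsg.Agent.Lib.FX.FXQ1B
import Cfsg.Agent.Lib.FX.FXQGEN
import Cfsg.Agent.Lib.FX.FXQSTEP
import Cfsg.Agent.Lib.FX.FXM1
import Cfsg.Agent.Lib.FX.FXMIN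

/-! S3816 piece FX-M5 (helper14 design; see plans/S3816_plan.md).  Proved by helper27. -/

set_option autoImplicit false

namespace Cfsg.Agent.Helper14.FX

open Subgroup

universe u

variable {X : Type u} [Group X]

section M
variable [Finite X] {p : ℕ} [Fact p.Prime] {a : X} {K V : Subgroup X} {r : ℕ}

theorem fix_eq (h : MinCE p a K) (hV : IsMin a K V r) :
    ∀ c ∈ K ⊓ cC a, ∃ y ∈ cR a K, ∃ v ∈ V ⊓ cC a, c = y * v :=
  quot_step h (cDK_eq h) hV.le hV.nml hV.inv hV.ne_bot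

theorem V_fix_not_le (h : MinCE p a K) (hV : IsMin a K V r) : ¬ (V ⊓ cC a ≤ cR a K) := by
  intro hle
  apply fix_not_le h
  intro c hc
  obtain ⟨y, hy, v, hv, rfl⟩ := fix_eq h hV c hc
  exact mul_mem hy (hle hv)

end M

end Cfsg.Agent.Helper14.FX
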