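import Mathlib
import Cfsg.Agent.Lib.FX.FXDefs
import Cfsg.Agent.Lib.FX.FXB1
import Cfsg.Agent.Lib.FX.FXB2A
import Cfsg.Agent.Lib.FX.FXB2B
import Cfsg.Agent.Lib.FX.FXB3
import Cfsg.Agent.Lib.FX.FXB4
import Cfsg.Agent.Lib.FX.FXB5
import Cfsg.Agent.Lib.FX.FXB6
import Cfsg.Agent.Lib.FX.FXQ1
import Cfsg.Agent.Lib.FX.FXQ1B
import Cfsg.Agent.Lib.FX.FXQGEN
import Cfsg.Agent.Lib.FX.FXQSTEP
import Cfsg.Agent.Lib.FX.FXM1
import Cfsg.Agent.Lib.FX.FXMIN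
import Cfsg.Agent.Lib.FX.FXM5

/-! S3816 piece FX-M5C (helper14 design; see plans/S3816_plan.md).  Proved by helper26. -/

set_option autoImplicit false

namespace Cfsg.Agent.Helper14.FX

open Subgroup

universe u

variable {X : Type u} [Group X]

section M
variable [Finite X] {p : ℕ} [Fact p.Prime] {a : X} {K V : Subgroup X} {r : ℕ}

theorem comm_mem_cR (h : MinCE p a K) (hV : IsMin a K V r) :
    ∀ c ∈ K ⊓ cC a, ∀ c' ∈ K ⊓ cC a, c * c' * c⁻¹ * c'⁻¹ ∈ cR a K := by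
  intro c hc c' hc'
  obtain ⟨y, hy, v, hv, rfl⟩ := fix_eq h hV c hc
  obtain ⟨y', hy', v', hv', rfl⟩ := fix_eq h hV c' hc'
  have hvC : v ∈ K ⊓ cC a := ⟨hV.le hv.1, hv.2⟩
  have hv'C : v' ∈ K ⊓ cC a := ⟨hV.le hv'.1, hv'.2⟩
  have hcomm : v * v' = v' * v := hV.comm v hv.1 v' hv'.1
  have hc2 : v' * v⁻¹ = v⁻¹ * v' := by
    have : v⁻¹ * v' = v⁻¹ * (v * v') * v⁻¹ := by rw [hcomm]; group
    rw [this]; group
  have e : y * v * (y' * v') * (y * v)⁻¹ * (y' * v')⁻¹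
      = y * v * y' * (v' * v⁻¹) * y⁻¹ * v'⁻¹ * y'⁻¹ := by group
  have e2 : y * v * y' * (v⁻¹ * v') * y⁻¹ * v'⁻¹ * y'⁻¹
      = y * (v * y' * v⁻¹) * (v' * y⁻¹ * v'⁻¹) * y'⁻¹ := by group
  rw [e, hc2, e2]
  have hn := cR_nml (a := a) (K := K) h.hyp.inv
  exact mul_mem (mul_mem (mul_mem hy (hn v hvC y' hy')) (hn v' hv'C y⁻¹ (inv_mem hy))) (inv_mem hy')

end M

end Cfsg.Agent.Helper14.FX
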