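import Mathlib
import Cfsg.Agent.Lib.FX.FXDefs
import Cfsg.Agent.Lib.FX.FXB1
import Cfsg.Agent.Lib.FX.FXB2A
import Cfsg.Agent.Lib.FX.FXB2B
import Cfsg.Agent.Lib.FX.FXB3
import Cfsg.Agent.Lib.FX.FXB4
import Cfsg.Agent.Lib.FX.FXB5
import Cfsg.Agent.Lib.FX.FXB6
import Cfsg.Agent.Lib.FX.FXQ1
import Cfsg.Agent.Lib.FX.FXQ1B
import Cfsg.Agent.Lib.FX.FXQGEN
import Cfsg.Agent.Lib.FX.FXQSTEP
import Cfsg.Agent.Lib.FX.FXM1

/-! S3816 piece FX-MIN (helper14 design; see plans/S3816_plan.md).  STUB: overwrite this file, keeping the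
statement(s), namespace, variables and imports (extra imports of Mathlib / landed Lib files allowed; every
EARLIER FX piece is already imported and may be used as a black box). Aux lemmas: fresh names `fx_min_...`. -/

set_option autoImplicit false

namespace Cfsg.Agent.Helper14.FX

open Subgroup

universe u

variable {X : Type u} [Group X]

section M
variable [Finite X] {p : ℕ} [Fact p.Prime] {a : X} {K V : Subgroup X} {r : ℕ}

omit [Finite X] in
theorem fx_min_comm_eq (K : Subgroup X) :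
    ⁅K, K⁆ = (commutator ↥K).map K.subtype := by
  rw [commutator_def, Subgroup.map_commutator, ← MonoidHom.range_eq_map, Subgroup.range_subtype]

omit [Finite X] in
theorem fx_min_conj_mem (K : Subgroup X) (g : X) (hg : ∀ k ∈ K, g * k * g⁻¹ ∈ K) :
    ∀ m ∈ ⁅K, K⁆, g * m * g⁻¹ ∈ ⁅K, K⁆ := by
  intro m hm
  have h1 : (⁅K, K⁆).map (MulAut.conj g).toMonoidHom ≤ ⁅K, K⁆ := by
    rw [Subgroup.map_commutator]
    have h2 : K.map (MulAut.conj g).toMonoidHom ≤ K := by
      rintro _ ⟨k, hk, rfl⟩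
      exact hg k hk
    exact Subgroup.commutator_mono h2 h2
  exact h1 ⟨m, hm, rfl⟩

omit [Finite X] in
theorem fx_min_comm_le (K : Subgroup X) : ⁅K, K⁆ ≤ K :=
  Subgroup.commutator_le.2 (fun x hx y hy => by
    rw [commutatorElement_def]
    exact K.mul_mem (K.mul_mem (K.mul_mem hx hy) (K.inv_mem hx)) (K.inv_mem hy))

/-- the `r`-torsion of a commutative subgroup -/
def fx_min_tors (V : Subgroup X) (r : ℕ) (hc : ∀ x ∈ V, ∀ y ∈ V, x * y = y * x) : Subgroup X where
  carrier := {w | w ∈ V ∧ w ^ r = 1}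
  one_mem' := ⟨V.one_mem, one_pow r⟩
  mul_mem' := by
    rintro x y ⟨hx, hxr⟩ ⟨hy, hyr⟩
    refine ⟨V.mul_mem hx hy, ?_⟩
    have hcomm : Commute x y := hc x hx y hy
    rw [hcomm.mul_pow, hxr, hyr, one_mul]
  inv_mem' := by
    rintro x ⟨hx, hxr⟩
    exact ⟨V.inv_mem hx, by rw [_root_.inv_pow, hxr, inv_one]⟩

theorem exists_isMin' (hs : Group.IsSolvable K) (hi : Inv a K) (hne : K ≠ ⊥) :
    ∃ (V : Subgroup X) (r : ℕ), IsMin a K V r := by
  classical
  let 𝒮 : Set (Subgroup X) := {W | W ≤ K ∧ W ≠ ⊥ ∧ Nml K W ∧ Inv a W}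
  have hfin : 𝒮.Finite := Set.toFinite 𝒮
  have hne' : 𝒮.Nonempty :=
    ⟨K, le_rfl, hne, fun k hk v hv => K.mul_mem (K.mul_mem hk hv) (K.inv_mem hk), hi⟩
  obtain ⟨V, ⟨hVK, hV0, hVn, hVi⟩, hmin⟩ := hfin.exists_minimal hne'
  have hminV : ∀ W : Subgroup X, W ≤ V → Nml K W → Inv a W → W = ⊥ ∨ W = V := by
    intro W hWV hWn hWi
    by_cases hW0 : W = ⊥
    · exact Or.inl hW0
    · exact Or.inr (le_antisymm hWV (hmin ⟨hWV.trans hVK, hW0, hWn, hWi⟩ hWV))
  -- `V` is commutative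
  have hVsolv : Group.IsSolvable ↥V :=
    Group.isSolvable_of_isSolvable_injective (Subgroup.inclusion_injective hVK)
  have hVnt : Nontrivial ↥V := (Subgroup.nontrivial_iff_ne_bot V).2 hV0
  have hcomm0 : ⁅V, V⁆ = ⊥ := by
    have h1 : Nml K ⁅V, V⁆ := fun k hk m hm => fx_min_conj_mem V k (fun v hv => hVn k hk v hv) m hm
    have h2 : Inv a ⁅V, V⁆ := fun m hm => fx_min_conj_mem V a hVi m hm
    rcases hminV _ (fx_min_comm_le V) h1 h2 with h | h
    · exact h
    · exfalso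
      have hlt : commutator ↥V < ⊤ := Group.IsSolvable.commutator_lt_top_of_nontrivial ↥V
      apply hlt.ne
      apply Subgroup.map_injective V.subtype_injective
      rw [← fx_min_comm_eq, h, ← MonoidHom.range_eq_map, Subgroup.range_subtype]
  have hVc : ∀ x ∈ V, ∀ y ∈ V, x * y = y * x := by
    intro x hx y hy
    have h1 : x * y * x⁻¹ * y⁻¹ ∈ ⁅V, V⁆ := by
      rw [← commutatorElement_def]
      exact Subgroup.commutator_mem_commutator hx hy
    rw [hcomm0, Subgroup.mem_bot] at h1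
    calc x * y = (x * y * x⁻¹ * y⁻¹) * (y * x) := by group
      _ = y * x := by rw [h1, one_mul]
  -- a prime divisor of `|V|`
  have hcard : Nat.card ↥V ≠ 1 := by
    intro h
    exact hV0 ((Subgroup.card_eq_one).1 h)
  obtain ⟨r, hr, hrV⟩ := Nat.exists_prime_and_dvd hcard
  have : Fact r.Prime := ⟨hr⟩
  obtain ⟨w, hw⟩ := exists_prime_orderOf_dvd_card' (G := ↥V) r hrV
  -- the `r`-torsion
  have hT1 : Nml K (fx_min_tors V r hVc) := by
    rintro k hk v ⟨hv, hvr⟩
    refine ⟨hVn k hk v hv, ?_⟩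
    rw [conj_pow, hvr, mul_one, mul_inv_cancel]
  have hT2 : Inv a (fx_min_tors V r hVc) := by
    rintro v ⟨hv, hvr⟩
    refine ⟨hVi v hv, ?_⟩
    rw [conj_pow, hvr, mul_one, mul_inv_cancel]
  have hTV : fx_min_tors V r hVc ≤ V := fun v hv => hv.1
  have hT : fx_min_tors V r hVc = V := by
    rcases hminV _ hTV hT1 hT2 with h | h
    · exfalso
      have hwT : (w : X) ∈ fx_min_tors V r hVc := by
        refine ⟨w.2, ?_⟩
        have : w ^ r = 1 := by rw [← hw, pow_orderOf_eq_one]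
        simpa using congrArg Subtype.val this
      rw [h, Subgroup.mem_bot] at hwT
      have hw1 : w = 1 := Subtype.ext hwT
      rw [hw1, orderOf_one] at hw
      exact hr.one_lt.ne hw
    · exact h
  refine ⟨V, r, ⟨hr, hVK, hV0, hVn, hVi, hVc, ?_, hminV⟩⟩
  intro x hx
  have : x ∈ fx_min_tors V r hVc := by rw [hT]; exact hx
  exact this.2

theorem exists_isMin (h : MinCE p a K) : ∃ (V : Subgroup X) (r : ℕ), IsMin a K V r :=
  exists_isMin' h.hyp.solv h.hyp.inv (K_ne_bot h)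

end M

end Cfsg.Agent.Helper14.FX
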