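import Mathlib
import Cfsg.Agent.Lib.FX.FXDefs
import Cfsg.Agent.Lib.FX.FXB1
import Cfsg.Agent.Lib.FX.FXB2A
import Cfsg.Agent.Lib.FX.FXB2B
import Cfsg.Agent.Lib.FX.FXB3
import Cfsg.Agent.Lib.FX.FXB4
import Cfsg.Agent.Lib.FX.FXB5
import Cfsg.Agent.Lib.FX.FXB6
import Cfsg.Agent.Lib.FX.FXQ1
import Cfsg.Agent.Lib.FX.FXQ1B
import Cfsg.Agent.Lib.FX.FXQGEN
import Cfsg.Agent.Lib.FX.FXQSTEP
import Cfsg.Agent.Lib.FX.FXM1
import Cfsg.Agent.Lib.FX.FXMIN
import Cfsg.Agent.Lib.FX.FXM5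
import Cfsg.Agent.Lib.FX.FXM5C

/-! S3816 piece FX-M6 (helper14 design; see plans/S3816_plan.md): every nontrivial `a`-invariant
normal subgroup of the minimal counterexample has order divisible by `r`. -/

set_option autoImplicit false

namespace Cfsg.Agent.Helper14.FX

open Subgroup

universe u

variable {X : Type u} [Group X]

section M
variable [Finite X] {p : ℕ} [Fact p.Prime] {a : X} {K V : Subgroup X} {r : ℕ}

omit [Finite X] in
/-- modulo a subgroup `R` normalized by `n`, `(y n)^j ≡ n^j` for `y ∈ R` -/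
theorem fx_m6_pow_mem (R : Subgroup X) {y n : X} (hy : y ∈ R)
    (hnr : ∀ j : ℕ, ∀ x ∈ R, n ^ j * x * (n ^ j)⁻¹ ∈ R) :
    ∀ j : ℕ, (y * n) ^ j * (n ^ j)⁻¹ ∈ R := by
  intro j
  induction j with
  | zero => simp
  | succ j ih =>
    have h1 : (y * n) ^ (j + 1) * (n ^ (j + 1))⁻¹ =
        ((y * n) ^ j * (n ^ j)⁻¹) * (n ^ j * y * (n ^ j)⁻¹) := by
      rw [pow_succ, pow_succ]
      group
    rw [h1]
    exact R.mul_mem ih (hnr j y hy)

omit [Finite X] in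
/-- an element with `v^m ∈ R`, `v^r = 1`, `m` and `r` coprime lies in `R` -/
theorem fx_m6_mem_of_coprime (R : Subgroup X) {v : X} {m r : ℕ} (hcop : Nat.Coprime m r)
    (hm : v ^ m ∈ R) (hr : v ^ r = 1) : v ∈ R := by
  have hbez : (1 : ℤ) = m * Nat.gcdA m r + r * Nat.gcdB m r := by
    have := Nat.gcd_eq_gcd_ab m r
    rw [hcop.gcd_eq_one] at this
    exact_mod_cast this
  have hv : v = (v ^ m) ^ (Nat.gcdA m r) := by
    calc v = v ^ (1 : ℤ) := (zpow_one v).symm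
      _ = v ^ ((m : ℤ) * Nat.gcdA m r + r * Nat.gcdB m r) := by rw [← hbez]
      _ = (v ^ m) ^ (Nat.gcdA m r) * (v ^ r) ^ (Nat.gcdB m r) := by
          rw [zpow_add, zpow_mul, zpow_mul, zpow_natCast, zpow_natCast]
      _ = (v ^ m) ^ (Nat.gcdA m r) := by rw [hr, one_zpow, mul_one]
  rw [hv]
  exact R.zpow_mem hm _

theorem prime_dvd (h : MinCE p a K) (hV : IsMin a K V r) {N : Subgroup X} (hNK : N ≤ K) (hn : Nml K N)
    (hi : Inv a N) (hne : N ≠ ⊥) : r ∣ Nat.card N := by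
  by_contra hr
  have hK : cDK a K = K := cDK_eq h
  obtain ⟨v, hv, hvR⟩ := SetLike.not_le_iff_exists.mp (V_fix_not_le h hV)
  rw [Subgroup.mem_inf] at hv
  obtain ⟨hvV, hvC⟩ := hv
  have hvKC : v ∈ K ⊓ cC a := Subgroup.mem_inf.mpr ⟨hV.le hvV, hvC⟩
  obtain ⟨y, hy, n, hn', hvyn⟩ := quot_step h hK hNK hn hi hne v hvKC
  rw [Subgroup.mem_inf] at hn'
  obtain ⟨hnN, hnC⟩ := hn'
  have hnKC : n ∈ K ⊓ cC a := Subgroup.mem_inf.mpr ⟨hNK hnN, hnC⟩
  have hnml := cR_nml (a := a) (K := K) h.hyp.inv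
  have hnr : ∀ j : ℕ, ∀ x ∈ cR a K, n ^ j * x * (n ^ j)⁻¹ ∈ cR a K :=
    fun j x hx => hnml (n ^ j) (Subgroup.pow_mem _ hnKC j) x hx
  have hpow := fx_m6_pow_mem (cR a K) hy hnr (orderOf n)
  rw [pow_orderOf_eq_one, inv_one, mul_one, ← hvyn] at hpow
  have hdvd : orderOf n ∣ Nat.card N := Subgroup.orderOf_dvd_natCard N hnN
  have hcop : Nat.Coprime (orderOf n) r := by
    apply Nat.Coprime.symm
    rw [hV.prime.coprime_iff_not_dvd]
    exact fun hd => hr (hd.trans hdvd)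
  exact hvR (fx_m6_mem_of_coprime (cR a K) hcop hpow (hV.exp v hvV))

end M

end Cfsg.Agent.Helper14.FX
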