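import Mathlib
import Cfsg.Agent.Lib.FX.FXDefs
import Cfsg.Agent.Lib.FX.FXB1
import Cfsg.Agent.Lib.FX.FXB2A
import Cfsg.Agent.Lib.FX.FXB2B
import Cfsg.Agent.Lib.FX.FXB3
import Cfsg.Agent.Lib.FX.FXB4
import Cfsg.Agent.Lib.FX.FXB5
import Cfsg.Agent.Lib.FX.FXB6
import Cfsg.Agent.Lib.FX.FXQ1
import Cfsg.Agent.Lib.FX.FXQ1B
import Cfsg.Agent.Lib.FX.FXQGEN
import Cfsg.Agent.Lib.FX.FXQSTEP
import Cfsg.Agent.Lib.FX.FXM1
import Cfsg.Agent.Lib.FX.FXMIN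
import Cfsg.Agent.Lib.FX.FXM5
import Cfsg.Agent.Lib.FX.FXM5C
import Cfsg.Agent.Lib.FX.FXM6

/-! S3816 piece FX-E1 (helper14 design; see plans/S3816_plan.md).  STUB: overwrite this file, keeping the
statement(s), namespace, variables and imports (extra imports of Mathlib / landed Lib files allowed; every
EARLIER FX piece is already imported and may be used as a black box). Aux lemmas: fresh names `fx_e1_...`. -/

set_option autoImplicit false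

namespace Cfsg.Agent.Helper14.FX

open Subgroup

universe u

variable {X : Type u} [Group X]

section E
variable [Finite X] {p : ℕ} [Fact p.Prime] {a : X} {K V : Subgroup X} {r : ℕ}

omit [Finite X] in
/-- `[d u, v] ∈ D [u, v]` for `D` normalised by `K₁ ∋ u, v` -/
theorem fx_e1_comm_left {D K₁ : Subgroup X} (hn : Nml K₁ D) {d u v : X} (hd : d ∈ D) (hu : u ∈ K₁)
    (hv : v ∈ K₁) : ∃ e ∈ D, (d * u) * v * (d * u)⁻¹ * v⁻¹ = e * (u * v * u⁻¹ * v⁻¹) := by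
  have huv : u * v * u⁻¹ * v⁻¹ ∈ K₁ :=
    K₁.mul_mem (K₁.mul_mem (K₁.mul_mem hu hv) (K₁.inv_mem hu)) (K₁.inv_mem hv)
  refine ⟨d * ((u * v * u⁻¹ * v⁻¹) * (v * d⁻¹ * v⁻¹) * (u * v * u⁻¹ * v⁻¹)⁻¹), ?_, ?_⟩
  · exact D.mul_mem hd (hn _ huv _ (hn _ hv _ (D.inv_mem hd)))
  · group

omit [Finite X] in
/-- `[u, d v] ∈ D [u, v]` for `D` normalised by `K₁ ∋ u, v` -/
theorem fx_e1_comm_right {D K₁ : Subgroup X} (hn : Nml K₁ D) {d u v : X} (hd : d ∈ D) (hu : u ∈ K₁)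
    (hv : v ∈ K₁) : ∃ e ∈ D, u * (d * v) * u⁻¹ * (d * v)⁻¹ = e * (u * v * u⁻¹ * v⁻¹) := by
  have huv : u * v * u⁻¹ * v⁻¹ ∈ K₁ :=
    K₁.mul_mem (K₁.mul_mem (K₁.mul_mem hu hv) (K₁.inv_mem hu)) (K₁.inv_mem hv)
  refine ⟨(u * d * u⁻¹) * ((u * v * u⁻¹ * v⁻¹) * d⁻¹ * (u * v * u⁻¹ * v⁻¹)⁻¹), ?_, ?_⟩
  · exact D.mul_mem (hn _ hu _ hd) (hn _ huv _ (D.inv_mem hd))
  · group

theorem cKer_comm (h : MinCE p a K) (hV : IsMin a K V r) {K₁ : Subgroup X} (h1 : K₁ ≤ K) (hi : Inv a K₁) :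
    ∀ x ∈ K₁, ∀ y ∈ K₁, x * y * x⁻¹ * y⁻¹ ∈ cKer a K K₁ := by
  intro x hx y hy
  have hyp1 : Hyp p a K₁ := h.hyp.sub h1 hi
  have hn : Nml K₁ (cDK a K₁) := cDK_nml hi
  obtain ⟨d, hd, c, hc, rfl⟩ := exists_mul hyp1 x hx
  obtain ⟨d', hd', c', hc', rfl⟩ := exists_mul hyp1 y hy
  have hcK1 : c ∈ K₁ := hc.1
  have hc'K1 : c' ∈ K₁ := hc'.1
  obtain ⟨e1, he1, E1⟩ := fx_e1_comm_left hn hd hcK1 hy
  obtain ⟨e2, he2, E2⟩ := fx_e1_comm_right hn hd' hcK1 hc'K1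
  rw [E1, E2]
  have hcc : c * c' * c⁻¹ * c'⁻¹ ∈ K₁ ⊓ cR a K := by
    refine ⟨K₁.mul_mem (K₁.mul_mem (K₁.mul_mem hcK1 hc'K1) (K₁.inv_mem hcK1)) (K₁.inv_mem hc'K1), ?_⟩
    exact comm_mem_cR h hV c ⟨h1 hcK1, hc.2⟩ c' ⟨h1 hc'K1, hc'.2⟩
  unfold cKer
  exact Subgroup.mul_mem _ (Subgroup.mem_sup_left he1)
    (Subgroup.mul_mem _ (Subgroup.mem_sup_left he2) (Subgroup.mem_sup_right hcc))

theorem cKer_nml (h : MinCE p a K) (hV : IsMin a K V r) {K₁ : Subgroup X} (h1 : K₁ ≤ K) (hi : Inv a K₁) :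
    Nml K₁ (cKer a K K₁) := by
  intro k hk v hv
  have hvK : v ∈ K₁ := cKer_le hi hv
  have e : k * v * k⁻¹ = (k * v * k⁻¹ * v⁻¹) * v := by group
  rw [e]
  exact Subgroup.mul_mem _ (cKer_comm h hV h1 hi k hk v hvK) hv

end E

end Cfsg.Agent.Helper14.FX
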