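import Mathlib
import Cfsg.Agent.Lib.FX.FXDefs
import Cfsg.Agent.Lib.FX.FXB1
import Cfsg.Agent.Lib.FX.FXB2A
import Cfsg.Agent.Lib.FX.FXB2B
import Cfsg.Agent.Lib.FX.FXB3
import Cfsg.Agent.Lib.FX.FXB4
import Cfsg.Agent.Lib.FX.FXB5
import Cfsg.Agent.Lib.FX.FXB6
import Cfsg.Agent.Lib.FX.FXQ1
import Cfsg.Agent.Lib.FX.FXQ1B
import Cfsg.Agent.Lib.FX.FXQGEN
import Cfsg.Agent.Lib.FX.FXQSTEP
import Cfsg.Agent.Lib.FX.FXM1
import Cfsg.Agent.Lib.FX.FXMIN
import Cfsg.Agent.Lib.FX.FXM5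
import Cfsg.Agent.Lib.FX.FXM5C
import Cfsg.Agent.Lib.FX.FXM6
import Cfsg.Agent.Lib.FX.FXE1

/-! S3816 piece FX-E2 (helper14 design; see plans/S3816_plan.md). -/

set_option autoImplicit false

namespace Cfsg.Agent.Helper14.FX

open Subgroup

universe u

variable {X : Type u} [Group X]

section E
variable [Finite X] {p : ℕ} [Fact p.Prime] {a : X} {K V : Subgroup X} {r : ℕ}

theorem cKer_inf_cC (h : MinCE p a K) {K₁ : Subgroup X} (h1 : K₁ ≤ K) (hi : Inv a K₁) (hne : K₁ ≠ K) :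
    cKer a K K₁ ⊓ cC a = K₁ ⊓ cR a K := by
  have hRC : cR a K ≤ cC a := cR_le.trans inf_le_right
  have hDK : cDK a K₁ ≤ K₁ := cDK_le hi
  apply le_antisymm
  · intro x hx
    obtain ⟨hxK, hxC⟩ := Subgroup.mem_inf.1 hx
    unfold cKer at hxK
    have hnorm : K₁ ⊓ cR a K ≤ normalizer ((cDK a K₁ : Subgroup X) : Set X) :=
      inf_le_left.trans (fx_b4_nml_le_normalizer (cDK_nml hi))
    have hset := Subgroup.coe_mul_of_right_le_normalizer_left (cDK a K₁) (K₁ ⊓ cR a K) hnorm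
    have hx' : x ∈ ((cDK a K₁ ⊔ (K₁ ⊓ cR a K) : Subgroup X) : Set X) := hxK
    rw [hset] at hx'
    obtain ⟨d, hd, t, ht, rfl⟩ := hx'
    have htK : t ∈ K₁ := (Subgroup.mem_inf.1 ht).1
    have htR : t ∈ cR a K := (Subgroup.mem_inf.1 ht).2
    have htC : t ∈ cC a := hRC htR
    have hdC : d ∈ cC a := by
      have : d = (d * t) * t⁻¹ := by group
      rw [this]
      exact (cC a).mul_mem hxC ((cC a).inv_mem htC)
    have hdR : d ∈ cR a K := sub_le h h1 hi hne (Subgroup.mem_inf.2 ⟨hd, hdC⟩)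
    exact Subgroup.mem_inf.2 ⟨K₁.mul_mem (hDK hd) htK, (cR a K).mul_mem hdR htR⟩
  · apply le_inf
    · unfold cKer
      exact le_sup_right
    · exact inf_le_right.trans hRC

end E

end Cfsg.Agent.Helper14.FX
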