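import Mathlib
import Cfsg.Agent.Lib.FX.FXDefs
import Cfsg.Agent.Lib.FX.FXB1
import Cfsg.Agent.Lib.FX.FXB2A
import Cfsg.Agent.Lib.FX.FXB2B
import Cfsg.Agent.Lib.FX.FXB3
import Cfsg.Agent.Lib.FX.FXB4
import Cfsg.Agent.Lib.FX.FXB5
import Cfsg.Agent.Lib.FX.FXB6
import Cfsg.Agent.Lib.FX.FXQ1
import Cfsg.Agent.Lib.FX.FXQ1B
import Cfsg.Agent.Lib.FX.FXQGEN
import Cfsg.Agent.Lib.FX.FXQSTEP
import Cfsg.Agent.Lib.FX.FXM1
import Cfsg.Agent.Lib.FX.FXMIN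
import Cfsg.Agent.Lib.FX.FXM5
import Cfsg.Agent.Lib.FX.FXM5C
import Cfsg.Agent.Lib.FX.FXM6
import Cfsg.Agent.Lib.FX.FXE1
import Cfsg.Agent.Lib.FX.FXE2

/-! S3816 piece FX-E3 (helper14 design; see plans/S3816_plan.md).  Proved by helper26. -/

set_option autoImplicit false

namespace Cfsg.Agent.Helper14.FX

open Subgroup

universe u

variable {X : Type u} [Group X]

section E
variable [Finite X] {p : ℕ} [Fact p.Prime] {a : X} {K V : Subgroup X} {r : ℕ}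

theorem cKer_inf (h : MinCE p a K) {K₁ K₂ : Subgroup X} (h12 : K₁ ≤ K₂) (h2 : K₂ ≤ K)
    (hi1 : Inv a K₁) (hi2 : Inv a K₂) (hne : K₂ ≠ K) : cKer a K K₂ ⊓ K₁ = cKer a K K₁ := by
  have hmono : cDK a K₁ ≤ cDK a K₂ := cDK_mono h12
  apply le_antisymm
  · intro x hx
    obtain ⟨hx2, hx1⟩ := Subgroup.mem_inf.1 hx
    have hyp1 : Hyp p a K₁ := h.hyp.sub (h12.trans h2) hi1
    obtain ⟨d, hd, c, hc, rfl⟩ := exists_mul hyp1 x hx1
    have hd2 : d ∈ cKer a K K₂ := by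
      unfold cKer
      exact Subgroup.mem_sup_left (hmono hd)
    have hc2 : c ∈ cKer a K K₂ := by
      have : c = d⁻¹ * (d * c) := by group
      rw [this]
      exact mul_mem (inv_mem hd2) hx2
    have hc3 : c ∈ cKer a K K₂ ⊓ cC a := Subgroup.mem_inf.2 ⟨hc2, hc.2⟩
    rw [cKer_inf_cC h h2 hi2 hne] at hc3
    unfold cKer
    exact mul_mem (Subgroup.mem_sup_left hd) (Subgroup.mem_sup_right ⟨hc.1, hc3.2⟩)
  · refine le_inf ?_ (cKer_le hi1)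
    unfold cKer
    exact sup_le (hmono.trans le_sup_left) ((inf_le_inf_right _ h12).trans le_sup_right)

end E

end Cfsg.Agent.Helper14.FX
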