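import Mathlib
import Cfsg.Agent.Lib.FX.FXDefs
import Cfsg.Agent.Lib.FX.FXB1
import Cfsg.Agent.Lib.FX.FXB2A
import Cfsg.Agent.Lib.FX.FXB2B
import Cfsg.Agent.Lib.FX.FXB3
import Cfsg.Agent.Lib.FX.FXB4
import Cfsg.Agent.Lib.FX.FXB5
import Cfsg.Agent.Lib.FX.FXB6
import Cfsg.Agent.Lib.FX.FXQ1
import Cfsg.Agent.Lib.FX.FXQ1B
import Cfsg.Agent.Lib.FX.FXQGEN
import Cfsg.Agent.Lib.FX.FXQSTEP
import Cfsg.Agent.Lib.FX.FXM1
import Cfsg.Agent.Lib.FX.FXMIN
import Cfsg.Agent.Lib.FX.FXM5
import Cfsg.Agent.Lib.FX.FXM5C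
import Cfsg.Agent.Lib.FX.FXM6
import Cfsg.Agent.Lib.FX.FXE1
import Cfsg.Agent.Lib.FX.FXE2
import Cfsg.Agent.Lib.FX.FXE3

/-! S3816 piece FX-A0 (helper14 design; see plans/S3816_plan.md).  Proved by helper25.  (Stub note: overwrite this file, keeping the
statement(s), namespace, variables and imports (extra imports of Mathlib / landed Lib files allowed; every
EARLIER FX piece is already imported and may be used as a black box). Aux lemmas: fresh names `fx_a0_...`.) -/

set_option autoImplicit false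

namespace Cfsg.Agent.Helper14.FX

open Subgroup

universe u

variable {X : Type u} [Group X]

section A
variable [Finite X] {p : ℕ} [Fact p.Prime] {a : X} {K V : Subgroup X} {r : ℕ}

theorem caseA_basic (h : MinCE p a K) (hV : IsMin a K V r) (hA : ∀ v ∈ V, ∀ k ∈ K, v * k = k * v) :
    V ≤ cC a ∧ Nat.card V = r ∧ V ⊓ cR a K = ⊥ := by
  have hnle := V_fix_not_le h hV
  -- every subgroup of `V` is normalised by `K`
  have hnml : ∀ W : Subgroup X, W ≤ V → Nml K W := by
    intro W hW k hk w hw
    have h1 := hA w (hW hw) k hk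
    have e : k * w * k⁻¹ = w := by rw [← h1]; group
    rw [e]; exact hw
  -- subgroups of `cC a` are `a`-invariant
  have hinvC : ∀ W : Subgroup X, W ≤ cC a → Inv a W := by
    intro W hW w hw
    have hc : w ∈ cC a := hW hw
    have h1 : a * w = w * a := (Subgroup.mem_centralizer_iff.mp hc) a (Set.mem_singleton a)
    have e : a * w * a⁻¹ = w := by rw [h1]; group
    rw [e]; exact hw
  -- step 1: `V ≤ cC a`
  have h1 : V ≤ cC a := by
    rcases hV.min (V ⊓ cC a) inf_le_left (hnml _ inf_le_left) (hinvC _ inf_le_right) with hb | he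
    · exfalso
      apply hnle
      rw [hb]; exact bot_le
    · intro v hv
      have : v ∈ V ⊓ cC a := by rw [he]; exact hv
      exact this.2
  refine ⟨h1, ?_, ?_⟩
  · -- step 2: `V` is cyclic of order `r`
    have hne := hV.ne_bot
    rw [Ne, Subgroup.eq_bot_iff_forall] at hne
    push_neg at hne
    obtain ⟨v, hv, hv1⟩ := hne
    have hz : Subgroup.zpowers v ≤ V := by
      rw [Subgroup.zpowers_le]; exact hv
    rcases hV.min (Subgroup.zpowers v) hz (hnml _ hz) (hinvC _ (hz.trans h1)) with hb | he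
    · exfalso
      apply hv1
      have : v ∈ Subgroup.zpowers v := Subgroup.mem_zpowers v
      rw [hb, Subgroup.mem_bot] at this
      exact this
    · haveI : Fact r.Prime := ⟨hV.prime⟩
      rw [← he, Nat.card_zpowers]
      exact orderOf_eq_prime (hV.exp v hv) hv1
  · -- step 3: `V ⊓ cR a K = ⊥`
    rcases hV.min (V ⊓ cR a K) inf_le_left (hnml _ inf_le_left) (hinvC _ (inf_le_left.trans h1))
      with hb | he
    · exact hb
    · exfalso
      apply hnle
      intro v hv
      have : v ∈ V ⊓ cR a K := by rw [he]; exact hv.1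
      exact this.2

end A

end Cfsg.Agent.Helper14.FX
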