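import Mathlib
import Cfsg.Agent.Lib.FX.FXDefs
import Cfsg.Agent.Lib.FX.FXB1
import Cfsg.Agent.Lib.FX.FXB2A
import Cfsg.Agent.Lib.FX.FXB2B
import Cfsg.Agent.Lib.FX.FXB3
import Cfsg.Agent.Lib.FX.FXB4
import Cfsg.Agent.Lib.FX.FXB5
import Cfsg.Agent.Lib.FX.FXB6
import Cfsg.Agent.Lib.FX.FXQ1
import Cfsg.Agent.Lib.FX.FXQ1B
import Cfsg.Agent.Lib.FX.FXQGEN
import Cfsg.Agent.Lib.FX.FXQSTEP
import Cfsg.Agent.Lib.FX.FXM1
import Cfsg.Agent.Lib.FX.FXMIN
import Cfsg.Agent.Lib.FX.FXM5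
import Cfsg.Agent.Lib.FX.FXM5C
import Cfsg.Agent.Lib.FX.FXM6
import Cfsg.Agent.Lib.FX.FXE1
import Cfsg.Agent.Lib.FX.FXE2
import Cfsg.Agent.Lib.FX.FXE3
import Cfsg.Agent.Lib.FX.FXA0

/-! S3816 piece FX-TRANSFER (helper14 design; see plans/S3816_plan.md).  STUB: overwrite this file, keeping the
statement(s), namespace, variables and imports (extra imports of Mathlib / landed Lib files allowed; every
EARLIER FX piece is already imported and may be used as a black box). Aux lemmas: fresh names `fx_transfer_...`. -/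

set_option autoImplicit false

namespace Cfsg.Agent.Helper14.FX

open Subgroup

universe u

variable {X : Type u} [Group X]

section A
variable [Finite X] {p : ℕ} [Fact p.Prime] {a : X} {K V : Subgroup X} {r : ℕ}

theorem transfer_false {G : Type u} [Group G] [Finite G] (S M : Subgroup G) (r : ℕ) (hr : r.Prime)
    (hMS : M ≤ S) (hcomm : ∀ x ∈ S, ∀ y ∈ S, x * y * x⁻¹ * y⁻¹ ∈ M) (hidx : ¬ r ∣ S.index)
    (v : G) (hvc : v ∈ Subgroup.center G) (hvS : v ∈ S) (hvr : v ^ r = 1) (hv1 : v ≠ 1)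
    (hvM : Subgroup.zpowers v ⊓ M = ⊥)
    (hall : ∀ (A : Type u) [CommGroup A] (τ : G →* A), τ v = 1) : False := by
  -- `M` is normal in `S` with abelian quotient
  have hMn : (M.subgroupOf S).Normal := by
    refine ⟨fun m hm x => ?_⟩
    rw [Subgroup.mem_subgroupOf] at hm ⊢
    have h1 := hcomm x x.2 m (hMS hm)
    have h2 : ((x * m * x⁻¹ : ↥S) : G) = ((x : G) * (m : G) * (x : G)⁻¹ * (m : G)⁻¹) * (m : G) := by
      simp
    rw [h2]
    exact M.mul_mem h1 hm
  let : CommGroup (↥S ⧸ M.subgroupOf S) :=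
    { (inferInstance : Group (↥S ⧸ M.subgroupOf S)) with
      mul_comm := by
        intro x y
        induction x using QuotientGroup.induction_on with
        | H x =>
          induction y using QuotientGroup.induction_on with
          | H y =>
            rw [← QuotientGroup.mk_mul, ← QuotientGroup.mk_mul, QuotientGroup.eq]
            rw [Subgroup.mem_subgroupOf]
            have h1 := hcomm ((y : G)⁻¹) (S.inv_mem y.2) ((x : G)⁻¹) (S.inv_mem x.2)
            have h2 : (((x * y)⁻¹ * (y * x) : ↥S) : G) =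
                (y : G)⁻¹ * (x : G)⁻¹ * ((y : G)⁻¹)⁻¹ * ((x : G)⁻¹)⁻¹ := by
              simp [mul_assoc]
            rw [h2]
            exact h1 }
  let φ : ↥S →* ↥S ⧸ M.subgroupOf S := QuotientGroup.mk' (M.subgroupOf S)
  have key : ∀ (k : ℕ) (g₀ : G), g₀⁻¹ * v ^ k * g₀ ∈ S → g₀⁻¹ * v ^ k * g₀ = v ^ k := by
    intro k g₀ _
    have hc : v ^ k ∈ Subgroup.center G := Subgroup.pow_mem _ hvc k
    rw [Subgroup.mem_center_iff] at hc
    rw [mul_assoc, ← hc g₀, inv_mul_cancel_left]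
  have h1 := MonoidHom.transfer_eq_pow φ v key
  rw [hall _ (MonoidHom.transfer φ)] at h1
  have h2 : (⟨v ^ S.index, MonoidHom.transfer_eq_pow_aux v key⟩ : ↥S) ∈ M.subgroupOf S :=
    (QuotientGroup.eq_one_iff _).1 h1.symm
  rw [Subgroup.mem_subgroupOf] at h2
  have h3 : v ^ S.index ∈ Subgroup.zpowers v ⊓ M :=
    Subgroup.mem_inf.2 ⟨Subgroup.pow_mem _ (Subgroup.mem_zpowers v) _, h2⟩
  rw [hvM, Subgroup.mem_bot] at h3
  -- coprime exponents
  have hcop : Nat.Coprime r S.index := (Nat.Prime.coprime_iff_not_dvd hr).2 hidx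
  apply hv1
  have d1 := orderOf_dvd_of_pow_eq_one hvr
  have d2 := orderOf_dvd_of_pow_eq_one h3
  have d3 := Nat.dvd_gcd d1 d2
  rw [hcop.gcd_eq_one, Nat.dvd_one] at d3
  exact orderOf_eq_one_iff.1 d3

end A

end Cfsg.Agent.Helper14.FX
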