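import Mathlib
import Cfsg.Agent.Lib.FX.FXDefs
import Cfsg.Agent.Lib.FX.FXB1
import Cfsg.Agent.Lib.FX.FXB2A
import Cfsg.Agent.Lib.FX.FXB2B
import Cfsg.Agent.Lib.FX.FXB3
import Cfsg.Agent.Lib.FX.FXB4
import Cfsg.Agent.Lib.FX.FXB5
import Cfsg.Agent.Lib.FX.FXB6
import Cfsg.Agent.Lib.FX.FXQ1
import Cfsg.Agent.Lib.FX.FXQ1B
import Cfsg.Agent.Lib.FX.FXQGEN
import Cfsg.Agent.Lib.FX.FXQSTEP
import Cfsg.Agent.Lib.FX.FXM1
import Cfsg.Agent.Lib.FX.FXMIN
import Cfsg.Agent.Lib.FX.FXM5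
import Cfsg.Agent.Lib.FX.FXM5C
import Cfsg.Agent.Lib.FX.FXM6
import Cfsg.Agent.Lib.FX.FXE1
import Cfsg.Agent.Lib.FX.FXE2
import Cfsg.Agent.Lib.FX.FXE3
import Cfsg.Agent.Lib.FX.FXA0
import Cfsg.Agent.Lib.FX.FXTRANSFER

/-! S3816 piece FX-HOMFIX (helper14 design; see plans/S3816_plan.md).  STUB: overwrite this file, keeping the
statement(s), namespace, variables and imports (extra imports of Mathlib / landed Lib files allowed; every
EARLIER FX piece is already imported and may be used as a black box). Aux lemmas: fresh names `fx_homfix_...`. -/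

set_option autoImplicit false

namespace Cfsg.Agent.Helper14.FX

open Subgroup

universe u

variable {X : Type u} [Group X]

section A
variable [Finite X] {p : ℕ} [Fact p.Prime] {a : X} {K V : Subgroup X} {r : ℕ}

omit [Finite X] in
theorem fx_homfix_comm_eq (K : Subgroup X) :
    ⁅K, K⁆ = (commutator ↥K).map K.subtype := by
  rw [commutator_def, Subgroup.map_commutator, ← MonoidHom.range_eq_map, Subgroup.range_subtype]

omit [Finite X] in
theorem fx_homfix_conj_mem (K : Subgroup X) (g : X) (hg : ∀ k ∈ K, g * k * g⁻¹ ∈ K) :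
    ∀ m ∈ ⁅K, K⁆, g * m * g⁻¹ ∈ ⁅K, K⁆ := by
  intro m hm
  have h1 : (⁅K, K⁆).map (MulAut.conj g).toMonoidHom ≤ ⁅K, K⁆ := by
    rw [Subgroup.map_commutator]
    have h2 : K.map (MulAut.conj g).toMonoidHom ≤ K := by
      rintro _ ⟨k, hk, rfl⟩
      exact hg k hk
    exact Subgroup.commutator_mono h2 h2
  exact h1 ⟨m, hm, rfl⟩

theorem hom_fix_eq_one (h : Hyp p a K) (hK : cDK a K = K) {A : Type*} [CommGroup A] (τ : ↥K →* A)
    (v : ↥K) (hv : (v : X) ∈ cC a) : τ v = 1 := by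
  have hMK : ⁅K, K⁆ ≤ K :=
    Subgroup.commutator_le.2 (fun x hx y hy => by
      rw [commutatorElement_def]
      exact K.mul_mem (K.mul_mem (K.mul_mem hx hy) (K.inv_mem hx)) (K.inv_mem hy))
  have hn : Nml K ⁅K, K⁆ := fun k hk m hm =>
    fx_homfix_conj_mem K k (fun x hx => K.mul_mem (K.mul_mem hk hx) (K.inv_mem hk)) m hm
  have hi : Inv a ⁅K, K⁆ := fun m hm => fx_homfix_conj_mem K a h.inv m hm
  have hc : ∀ x ∈ K, ∀ y ∈ K, x * y * x⁻¹ * y⁻¹ ∈ ⁅K, K⁆ := fun x hx y hy => by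
    rw [← commutatorElement_def]
    exact Subgroup.commutator_mem_commutator hx hy
  have hvM : (v : X) ∈ ⁅K, K⁆ :=
    fix_le_of_comm h hK hMK hn hi hc (Subgroup.mem_inf.2 ⟨v.2, hv⟩)
  rw [fx_homfix_comm_eq] at hvM
  obtain ⟨w, hw, hwv⟩ := hvM
  have hwv' : w = v := Subtype.ext hwv
  rw [← hwv']
  exact MonoidHom.mem_ker.1 (Abelianization.commutator_subset_ker τ hw)

end A

end Cfsg.Agent.Helper14.FX
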