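import Mathlib
import Cfsg.Agent.Lib.FX.FXDefs
import Cfsg.Agent.Lib.FX.FXB1
import Cfsg.Agent.Lib.FX.FXB2A
import Cfsg.Agent.Lib.FX.FXB2B
import Cfsg.Agent.Lib.FX.FXB3
import Cfsg.Agent.Lib.FX.FXB4
import Cfsg.Agent.Lib.FX.FXB5
import Cfsg.Agent.Lib.FX.FXB6
import Cfsg.Agent.Lib.FX.FXQ1
import Cfsg.Agent.Lib.FX.FXQ1B
import Cfsg.Agent.Lib.FX.FXQGEN
import Cfsg.Agent.Lib.FX.FXQSTEP
import Cfsg.Agent.Lib.FX.FXM1
import Cfsg.Agent.Lib.FX.FXMIN
import Cfsg.Agent.Lib.FX.FXM5
import Cfsg.Agent.Lib.FX.FXM5C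
import Cfsg.Agent.Lib.FX.FXM6
import Cfsg.Agent.Lib.FX.FXE1
import Cfsg.Agent.Lib.FX.FXE2
import Cfsg.Agent.Lib.FX.FXE3
import Cfsg.Agent.Lib.FX.FXA0
import Cfsg.Agent.Lib.FX.FXTRANSFER
import Cfsg.Agent.Lib.FX.FXHOMFIX
import Cfsg.Agent.S0023

/-! S3816 piece FX-A1 (helper14 design; see plans/S3816_plan.md).  STUB: overwrite this file, keeping the
statement(s), namespace, variables and imports (extra imports of Mathlib / landed Lib files allowed; every
EARLIER FX piece is already imported and may be used as a black box). Aux lemmas: fresh names `fx_a1_...`. -/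

set_option autoImplicit false

namespace Cfsg.Agent.Helper14.FX

open Subgroup

universe u

variable {X : Type u} [Group X]

section A
variable [Finite X] {p : ℕ} [Fact p.Prime] {a : X} {K V : Subgroup X} {r : ℕ}

theorem caseA_pgroup (h : MinCE p a K) (hV : IsMin a K V r) (hA : ∀ v ∈ V, ∀ k ∈ K, v * k = k * v) :
    IsPGroup r K := by
  by_contra hnot
  haveI : Fact r.Prime := ⟨hV.prime⟩
  have hyp := h.hyp
  obtain ⟨hVC, hVcard, hVR⟩ := caseA_basic h hV hA
  -- an `a`-invariant Sylow `r`-subgroup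
  obtain ⟨P, hP⟩ := Cfsg.Agent.S0023.result (zpowers a) K (fx_b4_zpowers_le_normalizer hyp.inv)
    (fx_b4_coprime hyp) (Or.inr hyp.solv) r
  obtain ⟨S, hSdef⟩ : ∃ S : Subgroup X, S = (P : Subgroup ↥K).map K.subtype := ⟨_, rfl⟩
  rw [← hSdef] at hP
  have hSK : S ≤ K := by
    rw [hSdef]
    exact Subgroup.map_subtype_le _
  have hSr : IsPGroup r ↥S := by
    rw [hSdef]
    exact P.isPGroup'.map K.subtype
  have hSinv : Inv a S := by
    intro s hs
    have ha : a ∈ normalizer (S : Set X) := hP (Subgroup.mem_zpowers a)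
    exact (Subgroup.mem_normalizer_iff.mp ha s).mp hs
  have hSne : S ≠ K := by
    intro hEq
    apply hnot
    intro k
    have hkS : (k : X) ∈ S := by
      rw [hEq]
      exact k.2
    obtain ⟨n, hn⟩ := hSr ⟨k, hkS⟩
    refine ⟨n, ?_⟩
    apply Subtype.ext
    have := congrArg (fun z : ↥S => (z : X)) hn
    simpa using this
  have hmemS : ∀ x : ↥K, x ∈ (P : Subgroup ↥K) ↔ (x : X) ∈ S := by
    intro x
    rw [hSdef]
    constructor
    · intro hx
      exact Subgroup.mem_map_of_mem K.subtype hx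
    · rintro ⟨y, hy, hyx⟩
      have : y = x := Subtype.ext hyx
      rw [← this]
      exact hy
  -- the kernel
  have hMS : cKer a K S ≤ S := cKer_le hSinv
  have hMcomm := cKer_comm h hV hSK hSinv
  have hVM : V ⊓ cKer a K S = ⊥ := by
    rw [eq_bot_iff]
    intro x hx
    have h1 : x ∈ cKer a K S ⊓ cC a := ⟨hx.2, hVC hx.1⟩
    rw [cKer_inf_cC h hSK hSinv hSne] at h1
    have h2 : x ∈ V ⊓ cR a K := ⟨hx.1, h1.2⟩
    rw [hVR] at h2
    exact h2
  -- `V` lies in `S`
  have hVS : V ≤ S := by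
    haveI : (V.subgroupOf K).Normal := by
      refine ⟨fun x hx g => ?_⟩
      rw [Subgroup.mem_subgroupOf] at hx ⊢
      exact hV.nml g g.2 x hx
    have hVr : IsPGroup r ↥(V.subgroupOf K) := by
      intro x
      refine ⟨1, ?_⟩
      apply Subtype.ext
      apply Subtype.ext
      rw [pow_one]
      have hx : ((x : ↥K) : X) ∈ V := Subgroup.mem_subgroupOf.mp x.2
      have := hV.exp _ hx
      simpa using this
    have hle := hVr.le_sylow_of_normal P
    intro v hv
    have : (⟨v, hV.le hv⟩ : ↥K) ∈ (P : Subgroup ↥K) := hle (Subgroup.mem_subgroupOf.mpr hv)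
    exact (hmemS _).mp this
  -- a non-trivial element of `V`
  obtain ⟨v, hvV, hv1⟩ : ∃ v ∈ V, v ≠ 1 := by
    by_contra hcon
    push Not at hcon
    apply hV.ne_bot
    rw [Subgroup.eq_bot_iff_forall]
    exact hcon
  have hvK : v ∈ K := hV.le hvV
  refine transfer_false (G := ↥K) (P : Subgroup ↥K) ((cKer a K S).subgroupOf K) r hV.prime ?_ ?_
    P.not_dvd_index ⟨v, hvK⟩ ?_ ?_ ?_ ?_ ?_ ?_
  · intro x hx
    exact (hmemS x).mpr (hMS (Subgroup.mem_subgroupOf.mp hx))
  · intro x hx y hy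
    rw [Subgroup.mem_subgroupOf]
    exact hMcomm _ ((hmemS x).mp hx) _ ((hmemS y).mp hy)
  · rw [Subgroup.mem_center_iff]
    intro g
    apply Subtype.ext
    exact (hA v hvV g g.2).symm
  · exact (hmemS _).mpr (hVS hvV)
  · apply Subtype.ext
    exact hV.exp v hvV
  · intro hc
    exact hv1 (congrArg Subtype.val hc)
  · rw [eq_bot_iff]
    intro x hx
    have h1 : x ∈ V.subgroupOf K := by
      have hz : zpowers (⟨v, hvK⟩ : ↥K) ≤ V.subgroupOf K := by
        rw [Subgroup.zpowers_le]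
        exact Subgroup.mem_subgroupOf.mpr hvV
      exact hz hx.1
    have h2 : (x : X) ∈ V ⊓ cKer a K S :=
      ⟨Subgroup.mem_subgroupOf.mp h1, Subgroup.mem_subgroupOf.mp hx.2⟩
    rw [hVM, Subgroup.mem_bot] at h2
    rw [Subgroup.mem_bot]
    exact Subtype.ext h2
  · intro A _ τ
    exact hom_fix_eq_one hyp (cDK_eq h) τ ⟨v, hvK⟩ (hVC hvV)

end A

end Cfsg.Agent.Helper14.FX
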