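import Mathlib
import Cfsg.Agent.Lib.FX.FXDefs
import Cfsg.Agent.Lib.FX.FXB1
import Cfsg.Agent.Lib.FX.FXB2A
import Cfsg.Agent.Lib.FX.FXB2B
import Cfsg.Agent.Lib.FX.FXB3
import Cfsg.Agent.Lib.FX.FXB4
import Cfsg.Agent.Lib.FX.FXB5
import Cfsg.Agent.Lib.FX.FXB6
import Cfsg.Agent.Lib.FX.FXQ1
import Cfsg.Agent.Lib.FX.FXQ1B
import Cfsg.Agent.Lib.FX.FXQGEN
import Cfsg.Agent.Lib.FX.FXQSTEP
import Cfsg.Agent.Lib.FX.FXM1
import Cfsg.Agent.Lib.FX.FXMIN
import Cfsg.Agent.Lib.FX.FXM5
import Cfsg.Agent.Lib.FX.FXM5C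
import Cfsg.Agent.Lib.FX.FXM6
import Cfsg.Agent.Lib.FX.FXE1
import Cfsg.Agent.Lib.FX.FXE2
import Cfsg.Agent.Lib.FX.FXE3
import Cfsg.Agent.Lib.FX.FXA0
import Cfsg.Agent.Lib.FX.FXTRANSFER
import Cfsg.Agent.Lib.FX.FXHOMFIX
import Cfsg.Agent.Lib.FX.FXA1
import Cfsg.Agent.S0012

/-! S3816 piece FX-FRAT (helper14 design; see plans/S3816_plan.md).  STUB: overwrite this file, keeping the
statement(s), namespace, variables and imports (extra imports of Mathlib / landed Lib files allowed; every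
EARLIER FX piece is already imported and may be used as a black box). Aux lemmas: fresh names `fx_frat_...`. -/

set_option autoImplicit false

namespace Cfsg.Agent.Helper14.FX

open Subgroup

universe u

variable {X : Type u} [Group X]

section A
variable [Finite X] {p : ℕ} [Fact p.Prime] {a : X} {K V : Subgroup X} {r : ℕ}

-- Frattini facts
omit [Finite X] in
theorem cPhi_le (K : Subgroup X) : cPhi K ≤ K := Subgroup.map_subtype_le _

omit [Finite X] in
theorem cPhi_nml (K : Subgroup X) : Nml K (cPhi K) := by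
  rintro k hk _ ⟨w, hw, rfl⟩
  have hn : (frattini ↥K).Normal := Subgroup.normal_of_characteristic _
  exact ⟨(⟨k, hk⟩ : ↥K) * w * (⟨k, hk⟩ : ↥K)⁻¹, hn.conj_mem w hw _, rfl⟩

/-- conjugation by `a` as an automorphism of the finite `a`-invariant subgroup `K` -/
noncomputable def fx_frat_conj (hi : Inv a K) : ↥K ≃* ↥K :=
  MulEquiv.ofBijective
    ({ toFun := fun k => ⟨a * (k : X) * a⁻¹, hi k k.2⟩
       map_one' := by apply Subtype.ext; simp
       map_mul' := by intro x y; apply Subtype.ext; simp [mul_assoc] } : ↥K →* ↥K)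
    (by
      have hinj : Function.Injective (fun k : ↥K => (⟨a * (k : X) * a⁻¹, hi k k.2⟩ : ↥K)) := by
        intro x y hxy
        have h1 : a * (x : X) * a⁻¹ = a * (y : X) * a⁻¹ := congrArg Subtype.val hxy
        apply Subtype.ext
        exact mul_left_cancel (mul_right_cancel h1)
      exact ⟨hinj, Finite.surjective_of_injective hinj⟩)

theorem fx_frat_conj_apply (hi : Inv a K) (k : ↥K) :
    ((fx_frat_conj hi k : ↥K) : X) = a * (k : X) * a⁻¹ := rfl

theorem inv_cPhi (hi : Inv a K) : Inv a (cPhi K) := by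
  rintro _ ⟨w, hw, rfl⟩
  have hch : (frattini ↥K).Characteristic := frattini_characteristic
  have h1 := (Subgroup.characteristic_iff_map_le.1 hch) (fx_frat_conj hi)
  have h2 : fx_frat_conj hi w ∈ frattini ↥K := h1 ⟨w, hw, rfl⟩
  exact ⟨fx_frat_conj hi w, h2, fx_frat_conj_apply hi w⟩

open scoped commutatorElement in
theorem comm_mem_cPhi (hr : r.Prime) (hK : IsPGroup r K) : ∀ x ∈ K, ∀ y ∈ K, x * y * x⁻¹ * y⁻¹ ∈ cPhi K := by
  intro x hx y hy
  have : Fact r.Prime := ⟨hr⟩
  have h1 := (Cfsg.Agent.S0012.result r hK).1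
  have h2 : ⁅(⟨x, hx⟩ : ↥K), (⟨y, hy⟩ : ↥K)⁆ ∈ commutator ↥K :=
    Subgroup.commutator_mem_commutator (Subgroup.mem_top _) (Subgroup.mem_top _)
  refine ⟨_, h1 h2, ?_⟩
  rw [commutatorElement_def]
  rfl

omit [Finite X] in
theorem fx_frat_map_top (K : Subgroup X) : (⊤ : Subgroup ↥K).map K.subtype = K := by
  rw [← MonoidHom.range_eq_map, Subgroup.range_subtype]

theorem cPhi_ne (hne : K ≠ ⊥) : cPhi K ≠ K := by
  intro heq
  have hnt : Nontrivial ↥K := (Subgroup.nontrivial_iff_ne_bot K).2 hne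
  have htop : frattini ↥K = ⊤ := by
    apply Subgroup.map_injective K.subtype_injective
    rw [fx_frat_map_top]
    exact heq
  rcases IsCoatomic.eq_top_or_exists_le_coatom (⊥ : Subgroup ↥K) with h | ⟨M, hM, -⟩
  · exact absurd h bot_ne_top
  · have := frattini_le_coatom hM
    rw [htop, top_le_iff] at this
    exact hM.1 this

theorem cPhi_nongen {W : Subgroup X} (hW : W ≤ K) (h : W ⊔ cPhi K = K) : W = K := by
  have h1 : W.subgroupOf K ⊔ frattini ↥K = ⊤ := by
    apply Subgroup.map_injective K.subtype_injective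
    rw [Subgroup.map_sup, fx_frat_map_top, Subgroup.map_subgroupOf_eq_of_le hW]
    exact h
  have h2 := frattini_nongenerating h1
  rw [Subgroup.subgroupOf_eq_top] at h2
  exact le_antisymm hW h2

end A

end Cfsg.Agent.Helper14.FX
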