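import Mathlib
import Cfsg.Agent.Lib.FX.FXDefs
import Cfsg.Agent.Lib.FX.FXB1
import Cfsg.Agent.Lib.FX.FXB2A
import Cfsg.Agent.Lib.FX.FXB2B
import Cfsg.Agent.Lib.FX.FXB3
import Cfsg.Agent.Lib.FX.FXB4
import Cfsg.Agent.Lib.FX.FXB5
import Cfsg.Agent.Lib.FX.FXB6
import Cfsg.Agent.Lib.FX.FXQ1
import Cfsg.Agent.Lib.FX.FXQ1B
import Cfsg.Agent.Lib.FX.FXQGEN
import Cfsg.Agent.Lib.FX.FXQSTEP
import Cfsg.Agent.Lib.FX.FXM1
import Cfsg.Agent.Lib.FX.FXMIN
import Cfsg.Agent.Lib.FX.FXM5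
import Cfsg.Agent.Lib.FX.FXM5C
import Cfsg.Agent.Lib.FX.FXM6
import Cfsg.Agent.Lib.FX.FXE1
import Cfsg.Agent.Lib.FX.FXE2
import Cfsg.Agent.Lib.FX.FXE3
import Cfsg.Agent.Lib.FX.FXA0
import Cfsg.Agent.Lib.FX.FXTRANSFER
import Cfsg.Agent.Lib.FX.FXHOMFIX
import Cfsg.Agent.Lib.FX.FXA1
import Cfsg.Agent.Lib.FX.FXFRAT

/-! S3816 piece FX-GENNE (helper14 design; see plans/S3816_plan.md).  STUB: overwrite this file, keeping the
statement(s), namespace, variables and imports (extra imports of Mathlib / landed Lib files allowed; every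
EARLIER FX piece is already imported and may be used as a black box). Aux lemmas: fresh names `fx_genne_...`. -/

set_option autoImplicit false

namespace Cfsg.Agent.Helper14.FX

open Subgroup

universe u

variable {X : Type u} [Group X]

section A
variable [Finite X] {p : ℕ} [Fact p.Prime] {a : X} {K V : Subgroup X} {r : ℕ}

theorem fix_le_cPhi (h : MinCE p a K) (hV : IsMin a K V r) (hr : IsPGroup r K) : K ⊓ cC a ≤ cPhi K :=
  fix_le_of_comm h.hyp (cDK_eq h) (cPhi_le K) (cPhi_nml K) (inv_cPhi h.hyp.inv)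
    (comm_mem_cPhi hV.prime hr)

/-- if `cD a k ≤ M`, `M` normalized by `K`, then all `g⁻¹ a^i g a^-i` with `g` in the closure of the
`a`-orbit of `k` lie in `M` -/
theorem fx_genne_closure {M : Subgroup X} {k : X}
    (hWK : Subgroup.closure {c : X | ∃ j : ℕ, c = a ^ j * k * (a ^ j)⁻¹} ≤ K)
    (hM : Nml K M) (hD : cD a k ≤ M) :
    ∀ g ∈ Subgroup.closure {c : X | ∃ j : ℕ, c = a ^ j * k * (a ^ j)⁻¹},
      ∀ i : ℕ, g⁻¹ * (a ^ i * g * (a ^ i)⁻¹) ∈ M := by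
  intro g hg
  have key : g ∈ K ∧ ∀ i : ℕ, g⁻¹ * (a ^ i * g * (a ^ i)⁻¹) ∈ M := by
    induction hg using Subgroup.closure_induction with
    | mem x hx =>
      refine ⟨hWK (Subgroup.subset_closure hx), ?_⟩
      obtain ⟨j, rfl⟩ := hx
      intro i
      have h1 : k⁻¹ * (a ^ i * k * (a ^ i)⁻¹) ∈ cD a k := gen_mem_cD a k i
      have h2 := inv_pow (inv_cD a k) j _ h1
      have hcomm : a ^ i * a ^ j = a ^ j * a ^ i := by rw [← pow_add, ← pow_add, add_comm]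
      have : (a ^ j * k * (a ^ j)⁻¹)⁻¹ * (a ^ i * (a ^ j * k * (a ^ j)⁻¹) * (a ^ i)⁻¹) =
          a ^ j * (k⁻¹ * (a ^ i * k * (a ^ i)⁻¹)) * (a ^ j)⁻¹ := by
        have e1 : a ^ i * (a ^ j * k * (a ^ j)⁻¹) * (a ^ i)⁻¹ =
            a ^ j * (a ^ i * k * (a ^ i)⁻¹) * (a ^ j)⁻¹ := by
          have hc2 : (a ^ j)⁻¹ * (a ^ i)⁻¹ = (a ^ i)⁻¹ * (a ^ j)⁻¹ := by
            rw [← mul_inv_rev, ← mul_inv_rev, hcomm]
          calc a ^ i * (a ^ j * k * (a ^ j)⁻¹) * (a ^ i)⁻¹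
              = (a ^ i * a ^ j) * k * ((a ^ j)⁻¹ * (a ^ i)⁻¹) := by group
            _ = (a ^ j * a ^ i) * k * ((a ^ i)⁻¹ * (a ^ j)⁻¹) := by rw [hcomm, hc2]
            _ = _ := by group
        rw [e1]; group
      rw [this]
      exact hD h2
    | one => exact ⟨one_mem _, fun i => by simp⟩
    | mul x y _ _ hx hy =>
      obtain ⟨hxK, hx⟩ := hx
      obtain ⟨hyK, hy⟩ := hy
      refine ⟨mul_mem hxK hyK, fun i => ?_⟩
      have e : (x * y)⁻¹ * (a ^ i * (x * y) * (a ^ i)⁻¹) =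
          (y⁻¹ * (x⁻¹ * (a ^ i * x * (a ^ i)⁻¹)) * y⁻¹⁻¹) * (y⁻¹ * (a ^ i * y * (a ^ i)⁻¹)) := by group
      rw [e]
      exact mul_mem (hM _ (inv_mem hyK) _ (hx i)) (hy i)
    | inv x _ hx =>
      obtain ⟨hxK, hx⟩ := hx
      refine ⟨inv_mem hxK, fun i => ?_⟩
      have e : x⁻¹⁻¹ * (a ^ i * x⁻¹ * (a ^ i)⁻¹) = x * (x⁻¹ * (a ^ i * x * (a ^ i)⁻¹))⁻¹ * x⁻¹ := by group
      rw [e]
      exact hM _ hxK _ (inv_mem (hx i))
  exact key.2

theorem gen_ne (h : MinCE p a K) (hV : IsMin a K V r) (hr : IsPGroup r K) {k : X} (hk : k ∈ K) :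
    Subgroup.closure {c : X | ∃ j : ℕ, c = a ^ j * k * (a ^ j)⁻¹} ⊔ cPhi K ≠ K := by
  classical
  intro hsup
  set W : Subgroup X := Subgroup.closure {c : X | ∃ j : ℕ, c = a ^ j * k * (a ^ j)⁻¹} with hW
  have hWK : W ≤ K := by
    rw [hW, Subgroup.closure_le]
    rintro c ⟨j, rfl⟩
    exact inv_pow h.hyp.inv j k hk
  have hWeq : W = K := cPhi_nongen hWK hsup
  by_cases hD : cD a k = K
  · apply fix_not_le h
    have h1 : cD a k ⊓ cC a ≤ cR a K := cD_inf_le_cR hk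
    rw [hD] at h1
    exact h1
  · have hDK : cD a k ≤ K := cD_le h.hyp.inv hk
    -- a maximal subgroup of ↥K containing cD a k
    haveI : Fact r.Prime := ⟨hV.prime⟩
    haveI : Group.IsNilpotent ↥K := hr.isNilpotent
    have hD' : (cD a k).subgroupOf K ≠ ⊤ := by
      intro htop
      apply hD
      apply le_antisymm hDK
      intro x hx
      have : (⟨x, hx⟩ : ↥K) ∈ (cD a k).subgroupOf K := by rw [htop]; exact Subgroup.mem_top _
      exact Subgroup.mem_subgroupOf.1 this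
    obtain ⟨M', hM'co, hDM'⟩ := (IsCoatomic.eq_top_or_exists_le_coatom ((cD a k).subgroupOf K)).resolve_left hD'
    have hnc : NormalizerCondition ↥K := Group.normalizerCondition_of_isNilpotent
    haveI hM'n : M'.Normal := NormalizerCondition.normal_of_coatom M' hnc hM'co
    set M : Subgroup X := M'.map K.subtype with hMdef
    have hMK : M ≤ K := Subgroup.map_subtype_le M'
    have hMnml : Nml K M := by
      intro g hg v hv
      obtain ⟨v', hv', rfl⟩ := Subgroup.mem_map.1 hv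
      refine Subgroup.mem_map.2 ⟨⟨g, hg⟩ * v' * ⟨g, hg⟩⁻¹, hM'n.conj_mem v' hv' ⟨g, hg⟩, rfl⟩
    have hDM : cD a k ≤ M := by
      intro x hx
      have : (⟨x, hDK hx⟩ : ↥K) ∈ M' := hDM' (Subgroup.mem_subgroupOf.2 hx)
      exact Subgroup.mem_map.2 ⟨_, this, rfl⟩
    have hall := fx_genne_closure (a := a) (K := K) (M := M) (k := k) (hW ▸ hWK) hMnml hDM
    have hcDK : cDK a K ≤ M := by
      rw [cDK_le_iff]
      intro g hg i
      apply hall
      rw [← hW, hWeq]; exact hg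
    rw [cDK_eq h] at hcDK
    have hMtop : M' = ⊤ := by
      rw [eq_top_iff]
      rintro ⟨x, hx⟩ _
      obtain ⟨y, hy, hyx⟩ := Subgroup.mem_map.1 (hcDK hx)
      have : y = ⟨x, hx⟩ := Subtype.ext hyx
      rw [← this]; exact hy
    exact hM'co.1 hMtop

end A

end Cfsg.Agent.Helper14.FX
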