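import Mathlib
import Cfsg.Agent.Lib.FX.FXDefs
import Cfsg.Agent.Lib.FX.FXB1
import Cfsg.Agent.Lib.FX.FXB2A
import Cfsg.Agent.Lib.FX.FXB2B
import Cfsg.Agent.Lib.FX.FXB3
import Cfsg.Agent.Lib.FX.FXB4
import Cfsg.Agent.Lib.FX.FXB5
import Cfsg.Agent.Lib.FX.FXB6
import Cfsg.Agent.Lib.FX.FXQ1
import Cfsg.Agent.Lib.FX.FXQ1B
import Cfsg.Agent.Lib.FX.FXQGEN
import Cfsg.Agent.Lib.FX.FXQSTEP
import Cfsg.Agent.Lib.FX.FXM1
import Cfsg.Agent.Lib.FX.FXMIN
import Cfsg.Agent.Lib.FX.FXM5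
import Cfsg.Agent.Lib.FX.FXM5C
import Cfsg.Agent.Lib.FX.FXM6
import Cfsg.Agent.Lib.FX.FXE1
import Cfsg.Agent.Lib.FX.FXE2
import Cfsg.Agent.Lib.FX.FXE3
import Cfsg.Agent.Lib.FX.FXA0
import Cfsg.Agent.Lib.FX.FXTRANSFER
import Cfsg.Agent.Lib.FX.FXHOMFIX
import Cfsg.Agent.Lib.FX.FXA1
import Cfsg.Agent.Lib.FX.FXFRAT
import Cfsg.Agent.Lib.FX.FXGENNE

/-! S3816 piece FX-PHI0 (helper14 design; see plans/S3816_plan.md).  STUB: overwrite this file, keeping the
statement(s), namespace, variables and imports (extra imports of Mathlib / landed Lib files allowed; every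
EARLIER FX piece is already imported and may be used as a black box). Aux lemmas: fresh names `fx_phi0_...`. -/

set_option autoImplicit false

namespace Cfsg.Agent.Helper14.FX

open Subgroup

universe u

variable {X : Type u} [Group X]

section A
variable [Finite X] {p : ℕ} [Fact p.Prime] {a : X} {K V : Subgroup X} {r : ℕ}

/-- the closure of an `a`-stable set is `a`-invariant -/
theorem fx_phi0_inv_closure {s : Set X} (hs : ∀ c ∈ s, a * c * a⁻¹ ∈ s) :
    Inv a (Subgroup.closure s) := by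
  intro x hx
  induction hx using Subgroup.closure_induction with
  | mem c hc => exact Subgroup.subset_closure (hs c hc)
  | one =>
    have e : a * 1 * a⁻¹ = 1 := by group
    rw [e]
    exact Subgroup.one_mem _
  | mul x y _ _ hx hy =>
    have e : a * (x * y) * a⁻¹ = (a * x * a⁻¹) * (a * y * a⁻¹) := by group
    rw [e]
    exact Subgroup.mul_mem _ hx hy
  | inv x _ hx =>
    have e : a * x⁻¹ * a⁻¹ = (a * x * a⁻¹)⁻¹ := by group
    rw [e]
    exact Subgroup.inv_mem _ hx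

theorem fx_phi0_inv_orbit (k : X) :
    Inv a (Subgroup.closure {c : X | ∃ j : ℕ, c = a ^ j * k * (a ^ j)⁻¹}) := by
  apply fx_phi0_inv_closure
  rintro c ⟨j, rfl⟩
  refine ⟨j + 1, ?_⟩
  rw [pow_succ']
  group

theorem phi0_nml (h : MinCE p a K) (hV : IsMin a K V r) (hr : IsPGroup r K) :
    Nml K (cKer a K (cPhi K)) := by
  intro k hk v hv
  set W : Subgroup X := Subgroup.closure {c : X | ∃ j : ℕ, c = a ^ j * k * (a ^ j)⁻¹} with hW
  have hWK : W ≤ K := by
    rw [hW, Subgroup.closure_le]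
    rintro c ⟨j, rfl⟩
    exact inv_pow h.hyp.inv j k hk
  have hkW : k ∈ W := by
    apply Subgroup.subset_closure
    exact ⟨0, by simp⟩
  have hXK : W ⊔ cPhi K ≤ K := sup_le hWK (cPhi_le K)
  have hXinv : Inv a (W ⊔ cPhi K) := inv_sup (fx_phi0_inv_orbit k) (inv_cPhi h.hyp.inv)
  have hXne : W ⊔ cPhi K ≠ K := gen_ne h hV hr hk
  have hnml := cKer_nml h hV hXK hXinv
  have hinf := cKer_inf h (le_sup_right : cPhi K ≤ W ⊔ cPhi K) hXK (inv_cPhi h.hyp.inv) hXinv hXne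
  rw [← hinf] at hv ⊢
  exact ⟨hnml k (Subgroup.mem_sup_left hkW) v hv.1, cPhi_nml K k hk v hv.2⟩

theorem phi0_eq_bot (h : MinCE p a K) (hV : IsMin a K V r) (hr : IsPGroup r K) :
    cKer a K (cPhi K) = ⊥ := by
  by_contra hne
  have hPinv : Inv a (cPhi K) := inv_cPhi h.hyp.inv
  have hle : cKer a K (cPhi K) ≤ K := (cKer_le hPinv).trans (cPhi_le K)
  have hq := quot_step h (cDK_eq h) hle (phi0_nml h hV hr) (inv_cKer hPinv) hne
  apply fix_not_le h
  intro c hc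
  obtain ⟨y, hy, n, hn, rfl⟩ := hq c hc
  have h1 := cKer_inf_cC h (cPhi_le K) hPinv (cPhi_ne (K_ne_bot h))
  rw [h1] at hn
  exact Subgroup.mul_mem _ hy hn.2

end A

end Cfsg.Agent.Helper14.FX
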