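import Mathlib
import Cfsg.Agent.Lib.FX.FXDefs
import Cfsg.Agent.Lib.FX.FXB1
import Cfsg.Agent.Lib.FX.FXB2A
import Cfsg.Agent.Lib.FX.FXB2B
import Cfsg.Agent.Lib.FX.FXB3
import Cfsg.Agent.Lib.FX.FXB4
import Cfsg.Agent.Lib.FX.FXB5
import Cfsg.Agent.Lib.FX.FXB6
import Cfsg.Agent.Lib.FX.FXQ1
import Cfsg.Agent.Lib.FX.FXQ1B
import Cfsg.Agent.Lib.FX.FXQGEN
import Cfsg.Agent.Lib.FX.FXQSTEP
import Cfsg.Agent.Lib.FX.FXM1
import Cfsg.Agent.Lib.FX.FXMIN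
import Cfsg.Agent.Lib.FX.FXM5
import Cfsg.Agent.Lib.FX.FXM5C
import Cfsg.Agent.Lib.FX.FXM6
import Cfsg.Agent.Lib.FX.FXE1
import Cfsg.Agent.Lib.FX.FXE2
import Cfsg.Agent.Lib.FX.FXE3
import Cfsg.Agent.Lib.FX.FXA0
import Cfsg.Agent.Lib.FX.FXTRANSFER
import Cfsg.Agent.Lib.FX.FXHOMFIX
import Cfsg.Agent.Lib.FX.FXA1
import Cfsg.Agent.Lib.FX.FXFRAT
import Cfsg.Agent.Lib.FX.FXGENNE
import Cfsg.Agent.Lib.FX.FXPHI0

/-! S3816 piece FX-PHIF (helper14 design; see plans/S3816_plan.md), implemented by helper11.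
`Φ₀ = 1` forces `R = 1`, `Φ(K) = V = C_K(a)`. -/

set_option autoImplicit false

namespace Cfsg.Agent.Helper14.FX

open Subgroup

universe u

variable {X : Type u} [Group X]

section A
variable [Finite X] {p : ℕ} [Fact p.Prime] {a : X} {K V : Subgroup X} {r : ℕ}

theorem phi_facts (h : MinCE p a K) (hV : IsMin a K V r) (hA : ∀ v ∈ V, ∀ k ∈ K, v * k = k * v)
    (hr : IsPGroup r K) : cR a K = ⊥ ∧ cPhi K = V ∧ K ⊓ cC a = V := by
  have hinvK : Inv a K := h.hyp.inv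
  have hΦK : cPhi K ≤ K := cPhi_le K
  have h0 : cKer a K (cPhi K) = ⊥ := phi0_eq_bot h hV hr
  unfold cKer at h0
  have h01 : cDK a (cPhi K) = ⊥ := by
    rw [eq_bot_iff, ← h0]
    exact le_sup_left
  have h02 : cPhi K ⊓ cR a K = ⊥ := by
    rw [eq_bot_iff, ← h0]
    exact le_sup_right
  have hΦC : cPhi K ≤ cC a := by
    intro x hx
    have h1 : x⁻¹ * (a ^ 1 * x * (a ^ 1)⁻¹) ∈ cDK a (cPhi K) := gen_mem_cDK hx 1
    rw [h01, Subgroup.mem_bot, pow_one] at h1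
    rw [mem_cC]
    have h2 : a * x * a⁻¹ = x := by
      have h3 : a * x * a⁻¹ = x * (x⁻¹ * (a * x * a⁻¹)) := by group
      rw [h3, h1, mul_one]
    calc a * x = a * x * a⁻¹ * a := by group
      _ = x * a := by rw [h2]
  have hCΦ : K ⊓ cC a ≤ cPhi K := fix_le_cPhi h hV hr
  have hRC : cR a K ≤ K ⊓ cC a :=
    cR_le.trans (inf_le_inf_right _ (cDK_le hinvK))
  have hR : cR a K = ⊥ := by
    rw [eq_bot_iff, ← h02]
    exact le_inf (hRC.trans hCΦ) le_rfl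
  obtain ⟨hVC, -, -⟩ := caseA_basic h hV hA
  have hCV : K ⊓ cC a = V := by
    apply le_antisymm
    · intro c hc
      obtain ⟨y, hy, v, hv, rfl⟩ := fix_eq h hV c hc
      rw [hR, Subgroup.mem_bot] at hy
      rw [hy, one_mul]
      exact hv.1
    · exact le_inf hV.le hVC
  refine ⟨hR, ?_, hCV⟩
  apply le_antisymm
  · rw [← hCV]
    exact le_inf hΦK hΦC
  · rw [← hCV]
    exact hCΦ

end A

end Cfsg.Agent.Helper14.FX
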