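import Mathlib
import Cfsg.Agent.Lib.FX.FXDefs
import Cfsg.Agent.Lib.FX.FXB1
import Cfsg.Agent.Lib.FX.FXB2A
import Cfsg.Agent.Lib.FX.FXB2B
import Cfsg.Agent.Lib.FX.FXB3
import Cfsg.Agent.Lib.FX.FXB4
import Cfsg.Agent.Lib.FX.FXB5
import Cfsg.Agent.Lib.FX.FXB6
import Cfsg.Agent.Lib.FX.FXQ1
import Cfsg.Agent.Lib.FX.FXQ1B
import Cfsg.Agent.Lib.FX.FXQGEN
import Cfsg.Agent.Lib.FX.FXQSTEP
import Cfsg.Agent.Lib.FX.FXM1
import Cfsg.Agent.Lib.FX.FXMIN
import Cfsg.Agent.Lib.FX.FXM5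
import Cfsg.Agent.Lib.FX.FXM5C
import Cfsg.Agent.Lib.FX.FXM6
import Cfsg.Agent.Lib.FX.FXE1
import Cfsg.Agent.Lib.FX.FXE2
import Cfsg.Agent.Lib.FX.FXE3
import Cfsg.Agent.Lib.FX.FXA0
import Cfsg.Agent.Lib.FX.FXTRANSFER
import Cfsg.Agent.Lib.FX.FXHOMFIX
import Cfsg.Agent.Lib.FX.FXA1
import Cfsg.Agent.Lib.FX.FXFRAT
import Cfsg.Agent.Lib.FX.FXGENNE
import Cfsg.Agent.Lib.FX.FXPHI0
import Cfsg.Agent.Lib.FX.FXPHIF

/-! S3816 piece FX-CC (helper14 design; see plans/S3816_plan.md).  Proved by helper8 in bilinear form: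
for `d ∈ cD a k` the commutator of the partial norm `∏_{i<m} a^i k a^-i` with `d` is `[k,d]^m`
(`cD a k` is abelian, `[K,K] ≤ V` central); the full norm lies in the central `V`, so `[k,d]^p = 1`, hence
`[k,d] = 1` by coprimality. -/

set_option autoImplicit false

namespace Cfsg.Agent.Helper14.FX

open Subgroup

universe u

variable {X : Type u} [Group X]

section A
variable [Finite X] {p : ℕ} [Fact p.Prime] {a : X} {K V : Subgroup X} {r : ℕ}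

theorem comm_conj (h : Hyp p a K) (hK : cDK a K = K) (hVK : V ≤ K)
    (hVc : ∀ v ∈ V, ∀ k ∈ K, v * k = k * v) (hVa : V ≤ cC a)
    (hcomm : ∀ x ∈ K, ∀ y ∈ K, x * y * x⁻¹ * y⁻¹ ∈ V) (hD : ∀ k ∈ K, cD a k ⊓ V = ⊥) :
    ∀ k ∈ K, ∀ i : ℕ, k * (a ^ i * k * (a ^ i)⁻¹) = (a ^ i * k * (a ^ i)⁻¹) * k := by
  intro k hk
  have hDK : cD a k ≤ K := cD_le h.inv hk
  -- `cD a k` is abelian
  have hDab : ∀ x ∈ cD a k, ∀ y ∈ cD a k, x * y = y * x := by
    intro x hx y hy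
    have h1 : x * y * x⁻¹ * y⁻¹ ∈ cD a k ⊓ V :=
      ⟨Subgroup.mul_mem _ (Subgroup.mul_mem _ (Subgroup.mul_mem _ hx hy) (Subgroup.inv_mem _ hx))
        (Subgroup.inv_mem _ hy), hcomm x (hDK hx) y (hDK hy)⟩
    rw [hD k hk, Subgroup.mem_bot] at h1
    calc x * y = x * y * x⁻¹ * y⁻¹ * (y * x) := by group
      _ = y * x := by rw [h1, one_mul]
  have hki : ∀ i : ℕ, a ^ i * k * (a ^ i)⁻¹ ∈ K := fun i => inv_pow h.inv i k hk
  have hn : Nml K V := by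
    intro g hg v hv
    have h1 := hVc v hv g hg
    have e : g * v * g⁻¹ = v := by rw [← h1]; group
    rw [e]; exact hv
  have hi : Inv a V := inv_of_le_cC hVa
  have hnorm := norm_mem h hK hVK hn hi hcomm k hk
  -- the commutator of a partial norm with `d`
  have key : ∀ d ∈ cD a k, ∀ m : ℕ,
      ((List.range m).map (fun i => a ^ i * k * (a ^ i)⁻¹)).prod * d *
        (((List.range m).map (fun i => a ^ i * k * (a ^ i)⁻¹)).prod)⁻¹ * d⁻¹
        = (k * d * k⁻¹ * d⁻¹) ^ m := by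
    intro d hd m
    induction m with
    | zero => simp
    | succ m ih =>
      have hPK : ((List.range m).map (fun i => a ^ i * k * (a ^ i)⁻¹)).prod ∈ K := by
        apply Subgroup.list_prod_mem
        intro x hx
        obtain ⟨i, -, rfl⟩ := List.mem_map.mp hx
        exact hki i
      rw [List.range_succ, List.map_append, List.prod_append, List.map_singleton,
        List.prod_singleton, pow_succ, ← ih]
      generalize ((List.range m).map (fun i => a ^ i * k * (a ^ i)⁻¹)).prod = P at hPK ⊢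
      have hdm : k⁻¹ * (a ^ m * k * (a ^ m)⁻¹) ∈ cD a k := gen_mem_cD a k m
      have h2 := hDab _ hdm d hd
      have h3 : (a ^ m * k * (a ^ m)⁻¹) * d * (a ^ m * k * (a ^ m)⁻¹)⁻¹ * d⁻¹
          = k * d * k⁻¹ * d⁻¹ := by
        have e : a ^ m * k * (a ^ m)⁻¹ = k * (k⁻¹ * (a ^ m * k * (a ^ m)⁻¹)) := by group
        rw [e]
        generalize k⁻¹ * (a ^ m * k * (a ^ m)⁻¹) = dm at h2 ⊢
        calc k * dm * d * (k * dm)⁻¹ * d⁻¹ = k * (dm * d) * dm⁻¹ * k⁻¹ * d⁻¹ := by group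
          _ = k * (d * dm) * dm⁻¹ * k⁻¹ * d⁻¹ := by rw [h2]
          _ = k * d * k⁻¹ * d⁻¹ := by group
      have hcV : k * d * k⁻¹ * d⁻¹ ∈ V := hcomm k hk d (hDK hd)
      have h4 := hVc _ hcV P hPK
      have hPd : P * d * P⁻¹ * d⁻¹ ∈ K :=
        K.mul_mem (K.mul_mem (K.mul_mem hPK (hDK hd)) (K.inv_mem hPK)) (K.inv_mem (hDK hd))
      have h5 := hVc _ hcV _ hPd
      generalize a ^ m * k * (a ^ m)⁻¹ = km at h3 ⊢
      calc P * km * d * (P * km)⁻¹ * d⁻¹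
          = P * (km * d * km⁻¹ * d⁻¹) * (d * P⁻¹ * d⁻¹) := by group
        _ = P * (k * d * k⁻¹ * d⁻¹) * (d * P⁻¹ * d⁻¹) := by rw [h3]
        _ = (k * d * k⁻¹ * d⁻¹) * P * (d * P⁻¹ * d⁻¹) := by rw [h4]
        _ = (k * d * k⁻¹ * d⁻¹) * (P * d * P⁻¹ * d⁻¹) := by group
        _ = (P * d * P⁻¹ * d⁻¹) * (k * d * k⁻¹ * d⁻¹) := h5
  -- `k` commutes with `cD a k`
  have hkD : ∀ d ∈ cD a k, k * d = d * k := by
    intro d hd
    have h1 := key d hd p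
    have h2 := hVc _ hnorm d (hDK hd)
    have hcV : k * d * k⁻¹ * d⁻¹ ∈ V := hcomm k hk d (hDK hd)
    have hcp : (k * d * k⁻¹ * d⁻¹) ^ p = 1 := by
      rw [← h1]
      generalize ((List.range p).map (fun i => a ^ i * k * (a ^ i)⁻¹)).prod = n at h2 ⊢
      rw [h2]; group
    have ho1 : orderOf (k * d * k⁻¹ * d⁻¹) ∣ p := orderOf_dvd_of_pow_eq_one hcp
    have ho2 : orderOf (k * d * k⁻¹ * d⁻¹) ∣ Nat.card K := by
      have h3 := orderOf_dvd_natCard (⟨k * d * k⁻¹ * d⁻¹, hVK hcV⟩ : K)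
      rwa [Subgroup.orderOf_mk] at h3
    have h6 : orderOf (k * d * k⁻¹ * d⁻¹) ∣ Nat.gcd (Nat.card K) p := Nat.dvd_gcd ho2 ho1
    have h7 : Nat.gcd (Nat.card K) p = 1 := h.cop
    rw [h7, Nat.dvd_one, orderOf_eq_one_iff] at h6
    calc k * d = k * d * k⁻¹ * d⁻¹ * (d * k) := by group
      _ = d * k := by rw [h6, one_mul]
  intro i
  have h1 := hkD _ (gen_mem_cD a k i)
  generalize a ^ i * k * (a ^ i)⁻¹ = ki at h1 ⊢
  calc k * ki = k * (k * (k⁻¹ * ki)) := by group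
    _ = k * (k⁻¹ * ki * k) := by rw [h1]
    _ = ki * k := by group

end A

end Cfsg.Agent.Helper14.FX
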