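import Mathlib
import Cfsg.Agent.Lib.FX.FXDefs
import Cfsg.Agent.Lib.FX.FXB1
import Cfsg.Agent.Lib.FX.FXB2A
import Cfsg.Agent.Lib.FX.FXB2B
import Cfsg.Agent.Lib.FX.FXB3
import Cfsg.Agent.Lib.FX.FXB4
import Cfsg.Agent.Lib.FX.FXB5
import Cfsg.Agent.Lib.FX.FXB6
import Cfsg.Agent.Lib.FX.FXQ1
import Cfsg.Agent.Lib.FX.FXQ1B
import Cfsg.Agent.Lib.FX.FXQGEN
import Cfsg.Agent.Lib.FX.FXQSTEP
import Cfsg.Agent.Lib.FX.FXM1
import Cfsg.Agent.Lib.FX.FXMIN
import Cfsg.Agent.Lib.FX.FXM5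
import Cfsg.Agent.Lib.FX.FXM5C
import Cfsg.Agent.Lib.FX.FXM6
import Cfsg.Agent.Lib.FX.FXE1
import Cfsg.Agent.Lib.FX.FXE2
import Cfsg.Agent.Lib.FX.FXE3
import Cfsg.Agent.Lib.FX.FXA0
import Cfsg.Agent.Lib.FX.FXTRANSFER
import Cfsg.Agent.Lib.FX.FXHOMFIX
import Cfsg.Agent.Lib.FX.FXA1
import Cfsg.Agent.Lib.FX.FXFRAT
import Cfsg.Agent.Lib.FX.FXGENNE
import Cfsg.Agent.Lib.FX.FXPHI0
import Cfsg.Agent.Lib.FX.FXPHIF
import Cfsg.Agent.Lib.FX.FXCC

/-! S3816 piece FX-POLAR (helper14 design; see plans/S3816_plan.md).  Proved by helper10 (aux names `fx_polar_...`). -/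

set_option autoImplicit false

namespace Cfsg.Agent.Helper14.FX

open Subgroup

universe u

variable {X : Type u} [Group X]

/-- the commutator `x y x⁻¹ y⁻¹` -/
def fx_polar_b (x y : X) : X := x * y * x⁻¹ * y⁻¹

theorem fx_polar_b_swap (x y : X) : fx_polar_b x y * fx_polar_b y x = 1 := by
  unfold fx_polar_b; group

theorem fx_polar_b_one (x : X) : fx_polar_b x 1 = 1 := by
  unfold fx_polar_b; group

theorem fx_polar_b_conj (c x y : X) :
    fx_polar_b (c * x * c⁻¹) (c * y * c⁻¹) = c * fx_polar_b x y * c⁻¹ := by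
  unfold fx_polar_b; group

theorem fx_polar_b_mul_left {K V : Subgroup X} (hVK : V ≤ K)
    (hVc : ∀ v ∈ V, ∀ k ∈ K, v * k = k * v)
    (hcomm : ∀ x ∈ K, ∀ y ∈ K, x * y * x⁻¹ * y⁻¹ ∈ V) {x y z : X} (hx : x ∈ K) (hy : y ∈ K)
    (hz : z ∈ K) : fx_polar_b (x * y) z = fx_polar_b x z * fx_polar_b y z := by
  have hyz : fx_polar_b y z ∈ V := hcomm y hy z hz
  have hxz : fx_polar_b x z ∈ V := hcomm x hx z hz
  have h1 : fx_polar_b y z * x = x * fx_polar_b y z := hVc _ hyz x hx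
  have h2 : fx_polar_b y z * fx_polar_b x z = fx_polar_b x z * fx_polar_b y z :=
    hVc _ hyz _ (hVK hxz)
  calc fx_polar_b (x * y) z = x * fx_polar_b y z * (z * x⁻¹ * z⁻¹) := by
        unfold fx_polar_b; group
    _ = fx_polar_b y z * x * (z * x⁻¹ * z⁻¹) := by rw [← h1]
    _ = fx_polar_b y z * fx_polar_b x z := by unfold fx_polar_b; group
    _ = fx_polar_b x z * fx_polar_b y z := h2

theorem fx_polar_b_mul_right {K V : Subgroup X}
    (hVc : ∀ v ∈ V, ∀ k ∈ K, v * k = k * v)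
    (hcomm : ∀ x ∈ K, ∀ y ∈ K, x * y * x⁻¹ * y⁻¹ ∈ V) {x y z : X} (hx : x ∈ K) (hy : y ∈ K)
    (hz : z ∈ K) : fx_polar_b x (y * z) = fx_polar_b x y * fx_polar_b x z := by
  have hxz : fx_polar_b x z ∈ V := hcomm x hx z hz
  have h1 : fx_polar_b x z * y⁻¹ = y⁻¹ * fx_polar_b x z := hVc _ hxz _ (K.inv_mem hy)
  calc fx_polar_b x (y * z) = x * y * x⁻¹ * (fx_polar_b x z * y⁻¹) := by
        unfold fx_polar_b; group
    _ = x * y * x⁻¹ * (y⁻¹ * fx_polar_b x z) := by rw [h1]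
    _ = fx_polar_b x y * fx_polar_b x z := by unfold fx_polar_b; group

section A
variable [Finite X] {p : ℕ} [Fact p.Prime] {a : X} {K V : Subgroup X} {r : ℕ}

theorem comm_of_comm_conj (hp2 : p ≠ 2) (h : Hyp p a K) (hK : cDK a K = K) (hVK : V ≤ K)
    (hVc : ∀ v ∈ V, ∀ k ∈ K, v * k = k * v) (hVa : V ≤ cC a)
    (hcomm : ∀ x ∈ K, ∀ y ∈ K, x * y * x⁻¹ * y⁻¹ ∈ V)
    (hE : ∀ k ∈ K, ∀ i : ℕ, k * (a ^ i * k * (a ^ i)⁻¹) = (a ^ i * k * (a ^ i)⁻¹) * k) :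
    ∀ x ∈ K, ∀ y ∈ K, x * y = y * x := by
  have hinv : ∀ i : ℕ, ∀ k ∈ K, a ^ i * k * (a ^ i)⁻¹ ∈ K := fun i => inv_pow h.inv i
  have hVfix : ∀ i : ℕ, ∀ v ∈ V, a ^ i * v * (a ^ i)⁻¹ = v := by
    intro i v hv
    have h1 : a * v = v * a := mem_cC.1 (hVa hv)
    have h2 : Commute a v := h1
    have h3 : Commute (a ^ i) v := h2.pow_left i
    rw [h3.eq, mul_assoc, mul_inv_cancel, mul_one]
  have hC : ∀ i : ℕ, ∀ x ∈ K, ∀ y ∈ K,
      fx_polar_b (a ^ i * x * (a ^ i)⁻¹) (a ^ i * y * (a ^ i)⁻¹) = fx_polar_b x y := by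
    intro i x hx y hy
    rw [fx_polar_b_conj]
    exact hVfix i _ (hcomm x hx y hy)
  have hE' : ∀ k ∈ K, ∀ i : ℕ, fx_polar_b k (a ^ i * k * (a ^ i)⁻¹) = 1 := by
    intro k hk i
    unfold fx_polar_b
    rw [hE k hk i]
    group
  have hpol : ∀ i : ℕ, ∀ k ∈ K, ∀ l ∈ K,
      fx_polar_b l (a ^ i * k * (a ^ i)⁻¹) * fx_polar_b k (a ^ i * l * (a ^ i)⁻¹) = 1 := by
    intro i k hk l hl
    have hkl : k * l ∈ K := K.mul_mem hk hl
    have hφk := hinv i k hk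
    have hφl := hinv i l hl
    have h0 := hE' (k * l) hkl i
    have hφ : a ^ i * (k * l) * (a ^ i)⁻¹
        = (a ^ i * k * (a ^ i)⁻¹) * (a ^ i * l * (a ^ i)⁻¹) := by group
    rw [hφ, fx_polar_b_mul_right hVc hcomm hkl hφk hφl,
      fx_polar_b_mul_left hVK hVc hcomm hk hl hφk, fx_polar_b_mul_left hVK hVc hcomm hk hl hφl,
      hE' k hk i, hE' l hl i, one_mul, mul_one] at h0
    exact h0
  have hkey : ∀ i : ℕ, ∀ k ∈ K, ∀ m ∈ K,
      fx_polar_b k (a ^ (2 * i) * m * (a ^ (2 * i))⁻¹) = fx_polar_b k m := by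
    intro i k hk m hm
    have h1 := hpol i k hk _ (hinv i m hm)
    rw [hC i m hm k hk] at h1
    have h2 : a ^ i * (a ^ i * m * (a ^ i)⁻¹) * (a ^ i)⁻¹
        = a ^ (2 * i) * m * (a ^ (2 * i))⁻¹ := by
      rw [two_mul, pow_add]; group
    rw [h2] at h1
    have h3 := fx_polar_b_swap m k
    exact mul_left_cancel (h1.trans h3.symm)
  have hcen : ∀ g ∈ K, ∀ j : ℕ, ∀ k ∈ K,
      k * (g⁻¹ * (a ^ j * g * (a ^ j)⁻¹)) = (g⁻¹ * (a ^ j * g * (a ^ j)⁻¹)) * k := by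
    intro g hg j k hk
    obtain ⟨t, ht⟩ : ∃ t, p + 1 = 2 * t := by
      have hodd : Odd p := (Fact.out : p.Prime).odd_of_ne_two hp2
      obtain ⟨s, hs⟩ := hodd
      exact ⟨s + 1, by omega⟩
    have hpow : a ^ (2 * (j * t)) = a ^ j := by
      have h2 : 2 * (j * t) = p * j + j := by
        calc 2 * (j * t) = j * (2 * t) := by ring
          _ = j * (p + 1) := by rw [ht]
          _ = p * j + j := by ring
      rw [h2, pow_add, pow_mul, h.pow, one_pow, one_mul]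
    have h1 := hkey (j * t) k hk g hg
    rw [hpow] at h1
    have hφg := hinv j g hg
    have hginv := K.inv_mem hg
    have h2 : fx_polar_b k (g⁻¹ * (a ^ j * g * (a ^ j)⁻¹)) = 1 := by
      rw [fx_polar_b_mul_right hVc hcomm hk hginv hφg, h1,
        ← fx_polar_b_mul_right hVc hcomm hk hginv hg, inv_mul_cancel, fx_polar_b_one]
    unfold fx_polar_b at h2
    have h3 := mul_inv_eq_one.1 h2
    exact mul_inv_eq_iff_eq_mul.1 h3
  have hle : cDK a K ≤ Subgroup.centralizer (K : Set X) := by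
    rw [cDK_le_iff]
    intro g hg i
    rw [Subgroup.mem_centralizer_iff]
    intro k hk
    exact hcen g hg i k hk
  intro x hx y hy
  have hx' : x ∈ Subgroup.centralizer (K : Set X) := hle (by rw [hK]; exact hx)
  exact ((Subgroup.mem_centralizer_iff.1 hx') y hy).symm

end A

end Cfsg.Agent.Helper14.FX
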