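import Mathlib
import Cfsg.Agent.Lib.FX.FXDefs
import Cfsg.Agent.Lib.FX.FXB1
import Cfsg.Agent.Lib.FX.FXB2A
import Cfsg.Agent.Lib.FX.FXB2B
import Cfsg.Agent.Lib.FX.FXB3
import Cfsg.Agent.Lib.FX.FXB4
import Cfsg.Agent.Lib.FX.FXB5
import Cfsg.Agent.Lib.FX.FXB6
import Cfsg.Agent.Lib.FX.FXQ1
import Cfsg.Agent.Lib.FX.FXQ1B
import Cfsg.Agent.Lib.FX.FXQGEN
import Cfsg.Agent.Lib.FX.FXQSTEP
import Cfsg.Agent.Lib.FX.FXM1
import Cfsg.Agent.Lib.FX.FXMIN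
import Cfsg.Agent.Lib.FX.FXM5
import Cfsg.Agent.Lib.FX.FXM5C
import Cfsg.Agent.Lib.FX.FXM6
import Cfsg.Agent.Lib.FX.FXE1
import Cfsg.Agent.Lib.FX.FXE2
import Cfsg.Agent.Lib.FX.FXE3
import Cfsg.Agent.Lib.FX.FXA0
import Cfsg.Agent.Lib.FX.FXTRANSFER
import Cfsg.Agent.Lib.FX.FXHOMFIX
import Cfsg.Agent.Lib.FX.FXA1
import Cfsg.Agent.Lib.FX.FXFRAT
import Cfsg.Agent.Lib.FX.FXGENNE
import Cfsg.Agent.Lib.FX.FXPHI0
import Cfsg.Agent.Lib.FX.FXPHIF
import Cfsg.Agent.Lib.FX.FXCC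
import Cfsg.Agent.Lib.FX.FXPOLAR

/-! S3816 piece FX-ENDA (helper14 design; see plans/S3816_plan.md; proved by helper22).  Was a STUB: overwrite this file, keeping the
statement(s), namespace, variables and imports (extra imports of Mathlib / landed Lib files allowed; every
EARLIER FX piece is already imported and may be used as a black box). Aux lemmas: fresh names `fx_enda_...`. -/

set_option autoImplicit false

namespace Cfsg.Agent.Helper14.FX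

open Subgroup

universe u

variable {X : Type u} [Group X]

section A
variable [Finite X] {p : ℕ} [Fact p.Prime] {a : X} {K V : Subgroup X} {r : ℕ}

theorem endgame (hp2 : p ≠ 2) (h : Hyp p a K) (hK : cDK a K = K) (hVK : V ≤ K)
    (hVc : ∀ v ∈ V, ∀ k ∈ K, v * k = k * v) (hVa : V ≤ cC a)
    (hcomm : ∀ x ∈ K, ∀ y ∈ K, x * y * x⁻¹ * y⁻¹ ∈ V) (hD : ∀ k ∈ K, cD a k ⊓ V = ⊥) :
    K ⊓ cC a = ⊥ := by
  have hE := comm_conj h hK hVK hVc hVa hcomm hD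
  have hab := comm_of_comm_conj hp2 h hK hVK hVc hVa hcomm hE
  exact fix_eq_bot_of_comm h hK hab

theorem caseA_false (hp2 : p ≠ 2) (h : MinCE p a K) (hV : IsMin a K V r)
    (hA : ∀ v ∈ V, ∀ k ∈ K, v * k = k * v) : False := by
  have hr : IsPGroup r K := caseA_pgroup h hV hA
  obtain ⟨hR, hPhi, hC⟩ := phi_facts h hV hA hr
  obtain ⟨hVa, -, -⟩ := caseA_basic h hV hA
  have hK : cDK a K = K := cDK_eq h
  have hcomm : ∀ x ∈ K, ∀ y ∈ K, x * y * x⁻¹ * y⁻¹ ∈ V := by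
    intro x hx y hy
    have := comm_mem_cPhi hV.prime hr x hx y hy
    rwa [hPhi] at this
  have hD : ∀ k ∈ K, cD a k ⊓ V = ⊥ := by
    intro k hk
    rw [eq_bot_iff]
    intro x hx
    rw [Subgroup.mem_inf] at hx
    have h1 : x ∈ cD a k ⊓ cC a := Subgroup.mem_inf.mpr ⟨hx.1, hVa hx.2⟩
    have h2 : x ∈ cR a K := cD_inf_le_cR hk h1
    rwa [hR] at h2
  have hbot := endgame hp2 h.hyp hK hV.le hA hVa hcomm hD
  rw [hC] at hbot
  exact hV.ne_bot hbot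

end A

end Cfsg.Agent.Helper14.FX
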