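import Mathlib
import Cfsg.Agent.Lib.FX.FXDefs
import Cfsg.Agent.Lib.FX.FXB1
import Cfsg.Agent.Lib.FX.FXB2A
import Cfsg.Agent.Lib.FX.FXB2B
import Cfsg.Agent.Lib.FX.FXB3
import Cfsg.Agent.Lib.FX.FXB4
import Cfsg.Agent.Lib.FX.FXB5
import Cfsg.Agent.Lib.FX.FXB6
import Cfsg.Agent.Lib.FX.FXQ1
import Cfsg.Agent.Lib.FX.FXQ1B
import Cfsg.Agent.Lib.FX.FXQGEN
import Cfsg.Agent.Lib.FX.FXQSTEP
import Cfsg.Agent.Lib.FX.FXM1
import Cfsg.Agent.Lib.FX.FXMIN
import Cfsg.Agent.Lib.FX.FXM5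
import Cfsg.Agent.Lib.FX.FXM5C
import Cfsg.Agent.Lib.FX.FXM6
import Cfsg.Agent.Lib.FX.FXE1
import Cfsg.Agent.Lib.FX.FXE2
import Cfsg.Agent.Lib.FX.FXE3
import Cfsg.Agent.Lib.FX.FXA0
import Cfsg.Agent.Lib.FX.FXTRANSFER
import Cfsg.Agent.Lib.FX.FXHOMFIX
import Cfsg.Agent.Lib.FX.FXA1
import Cfsg.Agent.Lib.FX.FXFRAT
import Cfsg.Agent.Lib.FX.FXGENNE
import Cfsg.Agent.Lib.FX.FXPHI0
import Cfsg.Agent.Lib.FX.FXPHIF
import Cfsg.Agent.Lib.FX.FXCC
import Cfsg.Agent.Lib.FX.FXPOLAR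
import Cfsg.Agent.Lib.FX.FXENDA

/-! S3816 piece FX-BB1 (helper14 design; see plans/S3816_plan.md).  Proved by helper21. (stub text: overwrite this file, keeping the
statement(s), namespace, variables and imports (extra imports of Mathlib / landed Lib files allowed; every
EARLIER FX piece is already imported and may be used as a black box). Aux lemmas: fresh names `fx_bb1_...`. -/

set_option autoImplicit false

namespace Cfsg.Agent.Helper14.FX

open Subgroup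

universe u

variable {X : Type u} [Group X]

section BB
variable [Finite X] {p : ℕ} [Fact p.Prime] {a : X} {K V Q : Subgroup X} {r s : ℕ}

omit [Finite X] in
theorem fx_bb1_conj_closure {S : Set X} (g : X)
    (hS : ∀ x ∈ S, g * x * g⁻¹ ∈ Subgroup.closure S) :
    ∀ y ∈ Subgroup.closure S, g * y * g⁻¹ ∈ Subgroup.closure S := by
  intro y hy
  refine Subgroup.closure_induction (p := fun y _ => g * y * g⁻¹ ∈ Subgroup.closure S)
    ?_ ?_ ?_ ?_ hy
  · intro x hx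
    exact hS x hx
  · simp
  · intro x y _ _ hx hy
    have e : g * (x * y) * g⁻¹ = (g * x * g⁻¹) * (g * y * g⁻¹) := by group
    rw [e]
    exact mul_mem hx hy
  · intro x _ hx
    have e : g * x⁻¹ * g⁻¹ = (g * x * g⁻¹)⁻¹ := by group
    rw [e]
    exact inv_mem hx

theorem V_ne_K (h : MinCE p a K) (hV : IsMin a K V r) : V ≠ K := by
  intro hVK
  have hc : ∀ x ∈ K, ∀ y ∈ K, x * y = y * x := by
    intro x hx y hy
    rw [← hVK] at hx hy
    exact hV.comm x hx y hy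
  have h1 : K ⊓ cC a = ⊥ := fix_eq_bot_of_comm h.hyp (cDK_eq h) hc
  apply fix_not_le h
  rw [h1]
  exact bot_le

theorem V0_ne (h : MinCE p a K) (hV : IsMin a K V r) : cKer a K V ≠ V := by
  intro hE
  have h1 : cKer a K V ⊓ cC a = V ⊓ cR a K := cKer_inf_cC h hV.le hV.inv (V_ne_K h hV)
  rw [hE] at h1
  apply V_fix_not_le h hV
  rw [h1]
  exact inf_le_right

theorem not_all_comm_V0 (h : MinCE p a K) (hV : IsMin a K V r)
    (hB : ¬ ∀ v ∈ V, ∀ k ∈ K, v * k = k * v) :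
    ¬ ∀ k ∈ K, ∀ v ∈ V, v⁻¹ * (k⁻¹ * v * k) ∈ cKer a K V := by
  intro hall
  set S : Set X := {x : X | ∃ v ∈ V, ∃ k ∈ K, x = v⁻¹ * (k⁻¹ * v * k)} with hS
  set W : Subgroup X := Subgroup.closure S with hW
  have hV0V : cKer a K V ≤ V := cKer_le hV.inv
  have hWV0 : W ≤ cKer a K V := by
    rw [hW, Subgroup.closure_le]
    rintro x ⟨v, hv, k, hk, rfl⟩
    exact hall k hk v hv
  have hWV : W ≤ V := le_trans hWV0 hV0V
  have hgen : ∀ g : X, (∀ v ∈ V, g * v * g⁻¹ ∈ V) → (∀ k ∈ K, g * k * g⁻¹ ∈ K) →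
      ∀ y ∈ W, g * y * g⁻¹ ∈ W := by
    intro g hgV hgK
    apply fx_bb1_conj_closure g
    rintro x ⟨v, hv, k, hk, rfl⟩
    apply Subgroup.subset_closure
    refine ⟨g * v * g⁻¹, hgV v hv, g * k * g⁻¹, hgK k hk, ?_⟩
    group
  have hnml : Nml K W := by
    intro g hg y hy
    exact hgen g (fun v hv => hV.nml g hg v hv)
      (fun k hk => mul_mem (mul_mem hg hk) (inv_mem hg)) y hy
  have hinv : Inv a W := by
    intro y hy
    exact hgen a (fun v hv => hV.inv v hv) (fun k hk => h.hyp.inv k hk) y hy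
  rcases hV.min W hWV hnml hinv with hbot | htop
  · apply hB
    intro v hv k hk
    have hx : v⁻¹ * (k⁻¹ * v * k) ∈ W :=
      Subgroup.subset_closure ⟨v, hv, k, hk, rfl⟩
    rw [hbot, Subgroup.mem_bot] at hx
    have e : v * k = k * v * (v⁻¹ * (k⁻¹ * v * k)) := by group
    rw [e, hx, mul_one]
  · apply V0_ne h hV
    apply le_antisymm hV0V
    intro x hx
    have hxW : x ∈ W := by rw [htop]; exact hx
    exact hWV0 hxW

end BB

end Cfsg.Agent.Helper14.FX
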