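import Mathlib
import Cfsg.Agent.Lib.FX.FXDefs
import Cfsg.Agent.Lib.FX.FXB1
import Cfsg.Agent.Lib.FX.FXB2A
import Cfsg.Agent.Lib.FX.FXB2B
import Cfsg.Agent.Lib.FX.FXB3
import Cfsg.Agent.Lib.FX.FXB4
import Cfsg.Agent.Lib.FX.FXB5
import Cfsg.Agent.Lib.FX.FXB6
import Cfsg.Agent.Lib.FX.FXQ1
import Cfsg.Agent.Lib.FX.FXQ1B
import Cfsg.Agent.Lib.FX.FXQGEN
import Cfsg.Agent.Lib.FX.FXQSTEP
import Cfsg.Agent.Lib.FX.FXM1
import Cfsg.Agent.Lib.FX.FXMIN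
import Cfsg.Agent.Lib.FX.FXM5
import Cfsg.Agent.Lib.FX.FXM5C
import Cfsg.Agent.Lib.FX.FXM6
import Cfsg.Agent.Lib.FX.FXE1
import Cfsg.Agent.Lib.FX.FXE2
import Cfsg.Agent.Lib.FX.FXE3
import Cfsg.Agent.Lib.FX.FXA0
import Cfsg.Agent.Lib.FX.FXTRANSFER
import Cfsg.Agent.Lib.FX.FXHOMFIX
import Cfsg.Agent.Lib.FX.FXA1
import Cfsg.Agent.Lib.FX.FXFRAT
import Cfsg.Agent.Lib.FX.FXGENNE
import Cfsg.Agent.Lib.FX.FXPHI0
import Cfsg.Agent.Lib.FX.FXPHIF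
import Cfsg.Agent.Lib.FX.FXCC
import Cfsg.Agent.Lib.FX.FXPOLAR
import Cfsg.Agent.Lib.FX.FXENDA
import Cfsg.Agent.Lib.FX.FXBB1

/-! S3816 piece FX-BB3 (helper14 design; see plans/S3816_plan.md).  Proved by helper21. (stub text: overwrite this file, keeping the
statement(s), namespace, variables and imports (extra imports of Mathlib / landed Lib files allowed; every
EARLIER FX piece is already imported and may be used as a black box). Aux lemmas: fresh names `fx_bb3_...`. -/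

set_option autoImplicit false

namespace Cfsg.Agent.Helper14.FX

open Subgroup

universe u

variable {X : Type u} [Group X]

section BB
variable [Finite X] {p : ℕ} [Fact p.Prime] {a : X} {K V Q : Subgroup X} {r s : ℕ}

theorem comm_mem_V0 (h : MinCE p a K) (hV : IsMin a K V r) {K₁ : Subgroup X} (h1 : K₁ ≤ K)
    (hi : Inv a K₁) (hne : K₁ ⊔ V ≠ K) : ∀ k ∈ K₁, ∀ v ∈ V, v⁻¹ * (k⁻¹ * v * k) ∈ cKer a K V := by
  intro k hk v hv
  have h2 : K₁ ⊔ V ≤ K := sup_le h1 hV.le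
  have hi2 : Inv a (K₁ ⊔ V) := inv_sup hi hV.inv
  have hc := cKer_comm h hV h2 hi2 v⁻¹ (le_sup_right (a := K₁) (inv_mem hv))
    k⁻¹ (le_sup_left (b := V) (inv_mem hk))
  have e : v⁻¹ * k⁻¹ * v⁻¹⁻¹ * k⁻¹⁻¹ = v⁻¹ * (k⁻¹ * v * k) := by group
  rw [e] at hc
  have hmemV : v⁻¹ * (k⁻¹ * v * k) ∈ V := by
    have := hV.nml k⁻¹ (inv_mem (h1 hk)) v hv
    rw [_root_.inv_inv] at this
    exact mul_mem (inv_mem hv) this
  have hE := cKer_inf h (K₁ := V) (K₂ := K₁ ⊔ V) le_sup_right h2 hV.inv hi2 hne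
  rw [← hE]
  exact Subgroup.mem_inf.2 ⟨hc, hmemV⟩

end BB

end Cfsg.Agent.Helper14.FX
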