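import Mathlib
import Cfsg.Agent.Lib.FX.FXDefs
import Cfsg.Agent.Lib.FX.FXB1
import Cfsg.Agent.Lib.FX.FXB2A
import Cfsg.Agent.Lib.FX.FXB2B
import Cfsg.Agent.Lib.FX.FXB3
import Cfsg.Agent.Lib.FX.FXB4
import Cfsg.Agent.Lib.FX.FXB5
import Cfsg.Agent.Lib.FX.FXB6
import Cfsg.Agent.Lib.FX.FXQ1
import Cfsg.Agent.Lib.FX.FXQ1B
import Cfsg.Agent.Lib.FX.FXQGEN
import Cfsg.Agent.Lib.FX.FXQSTEP
import Cfsg.Agent.Lib.FX.FXM1
import Cfsg.Agent.Lib.FX.FXMIN
import Cfsg.Agent.Lib.FX.FXM5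
import Cfsg.Agent.Lib.FX.FXM5C
import Cfsg.Agent.Lib.FX.FXM6
import Cfsg.Agent.Lib.FX.FXE1
import Cfsg.Agent.Lib.FX.FXE2
import Cfsg.Agent.Lib.FX.FXE3
import Cfsg.Agent.Lib.FX.FXA0
import Cfsg.Agent.Lib.FX.FXTRANSFER
import Cfsg.Agent.Lib.FX.FXHOMFIX
import Cfsg.Agent.Lib.FX.FXA1
import Cfsg.Agent.Lib.FX.FXFRAT
import Cfsg.Agent.Lib.FX.FXGENNE
import Cfsg.Agent.Lib.FX.FXPHI0
import Cfsg.Agent.Lib.FX.FXPHIF
import Cfsg.Agent.Lib.FX.FXCC
import Cfsg.Agent.Lib.FX.FXPOLAR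
import Cfsg.Agent.Lib.FX.FXENDA
import Cfsg.Agent.Lib.FX.FXBB1
import Cfsg.Agent.Lib.FX.FXBB3
import Cfsg.Agent.S0023

/-! S3816 piece FX-ISQ (helper14 design; see plans/S3816_plan.md).  Proof by helper7.  (Stub header: overwrite this file, keeping the
statement(s), namespace, variables and imports (extra imports of Mathlib / landed Lib files allowed; every
EARLIER FX piece is already imported and may be used as a black box). Aux lemmas: fresh names `fx_isq_...`.) -/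

set_option autoImplicit false

namespace Cfsg.Agent.Helper14.FX

open Subgroup

universe u

variable {X : Type u} [Group X]

section BB
variable [Finite X] {p : ℕ} [Fact p.Prime] {a : X} {K V Q : Subgroup X} {r s : ℕ}

/-- the subgroup `T = {k ∈ K | [V, k] ⊆ V₀}` -/
def fx_isq_T (K V V₀ : Subgroup X) (hn : Nml K V) : Subgroup X where
  carrier := {k | k ∈ K ∧ ∀ v ∈ V, v⁻¹ * (k⁻¹ * v * k) ∈ V₀}
  one_mem' := by
    refine ⟨one_mem K, ?_⟩
    intro v _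
    have e : v⁻¹ * ((1 : X)⁻¹ * v * 1) = 1 := by group
    rw [e]; exact one_mem V₀
  mul_mem' := by
    rintro k₁ k₂ ⟨hk₁, h₁⟩ ⟨hk₂, h₂⟩
    refine ⟨mul_mem hk₁ hk₂, ?_⟩
    intro v hv
    have hv' : k₁⁻¹ * v * k₁ ∈ V := by
      have := hn k₁⁻¹ (inv_mem hk₁) v hv
      rwa [_root_.inv_inv] at this
    have e : v⁻¹ * ((k₁ * k₂)⁻¹ * v * (k₁ * k₂)) =
        (v⁻¹ * (k₁⁻¹ * v * k₁)) * ((k₁⁻¹ * v * k₁)⁻¹ * (k₂⁻¹ * (k₁⁻¹ * v * k₁) * k₂)) := by group
    rw [e]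
    exact mul_mem (h₁ v hv) (h₂ _ hv')
  inv_mem' := by
    rintro k ⟨hk, h₁⟩
    refine ⟨inv_mem hk, ?_⟩
    intro v hv
    have hv' : k * v * k⁻¹ ∈ V := hn k hk v hv
    have h2 := inv_mem (h₁ _ hv')
    have e : ((k * v * k⁻¹)⁻¹ * (k⁻¹ * (k * v * k⁻¹) * k))⁻¹ = v⁻¹ * (k⁻¹⁻¹ * v * k⁻¹) := by group
    rwa [e] at h2

theorem exists_isQ (h : MinCE p a K) (hV : IsMin a K V r) (hB : ¬ ∀ v ∈ V, ∀ k ∈ K, v * k = k * v) :
    ∃ (s : ℕ) (Q : Subgroup X), IsQ a K V Q s := by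
  by_contra hno
  push Not at hno
  apply not_all_comm_V0 h hV hB
  set T := fx_isq_T K V (cKer a K V) hV.nml with hT
  have hTK : T ≤ K := fun k hk => hk.1
  -- every `a`-invariant Sylow subgroup of `K` lies in `T`
  have hsyl : ∀ s : ℕ, s.Prime → s ^ ((Nat.card K).factorization s) ∣ Nat.card T := by
    intro s hs
    have : Fact s.Prime := ⟨hs⟩
    obtain ⟨P, hP⟩ := Cfsg.Agent.S0023.result (zpowers a) K
      (fx_b4_zpowers_le_normalizer h.hyp.inv) (fx_b4_coprime h.hyp) (Or.inr h.hyp.solv) s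
    set Q : Subgroup X := (P : Subgroup K).map K.subtype with hQ
    have hQK : Q ≤ K := Subgroup.map_subtype_le _
    have hQcard : Nat.card Q = s ^ ((Nat.card K).factorization s) := by
      rw [hQ, Subgroup.card_map_of_injective K.subtype_injective]
      exact P.card_eq_multiplicity
    have hQpg : IsPGroup s Q := IsPGroup.of_card hQcard
    have hQinv : Inv a Q := by
      intro k hk
      have ha : a ∈ normalizer (Q : Set X) := hP (mem_zpowers a)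
      exact (Subgroup.mem_normalizer_iff.mp ha k).mp hk
    have hne : Q ⊔ V ≠ K := fun hsup => hno s Q ⟨hs, hQK, hQpg, hQinv, hsup⟩
    have hcomm := comm_mem_V0 h hV hQK hQinv hne
    have hQT : Q ≤ T := fun k hk => ⟨hQK hk, fun v hv => hcomm k hk v hv⟩
    rw [← hQcard]
    exact Subgroup.card_dvd_of_le hQT
  have hdvd : Nat.card K ∣ Nat.card T := by
    have hK0 : Nat.card K ≠ 0 := Nat.card_pos.ne'
    have hT0 : Nat.card T ≠ 0 := Nat.card_pos.ne'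
    rw [← Nat.factorization_prime_le_iff_dvd hK0 hT0]
    intro s hs
    exact (hs.pow_dvd_iff_le_factorization hT0).mp (hsyl s hs)
  have hle : Nat.card K ≤ Nat.card T := Nat.le_of_dvd Nat.card_pos hdvd
  have hEq : T = K := Subgroup.eq_of_le_of_card_ge hTK hle
  intro k hk v hv
  have : k ∈ T := hEq ▸ hk
  exact this.2 v hv

end BB

end Cfsg.Agent.Helper14.FX
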