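import Mathlib
import Cfsg.Agent.Lib.FX.FXDefs
import Cfsg.Agent.Lib.FX.FXB1
import Cfsg.Agent.Lib.FX.FXB2A
import Cfsg.Agent.Lib.FX.FXB2B
import Cfsg.Agent.Lib.FX.FXB3
import Cfsg.Agent.Lib.FX.FXB4
import Cfsg.Agent.Lib.FX.FXB5
import Cfsg.Agent.Lib.FX.FXB6
import Cfsg.Agent.Lib.FX.FXQ1
import Cfsg.Agent.Lib.FX.FXQ1B
import Cfsg.Agent.Lib.FX.FXQGEN
import Cfsg.Agent.Lib.FX.FXQSTEP
import Cfsg.Agent.Lib.FX.FXM1
import Cfsg.Agent.Lib.FX.FXMIN
import Cfsg.Agent.Lib.FX.FXM5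
import Cfsg.Agent.Lib.FX.FXM5C
import Cfsg.Agent.Lib.FX.FXM6
import Cfsg.Agent.Lib.FX.FXE1
import Cfsg.Agent.Lib.FX.FXE2
import Cfsg.Agent.Lib.FX.FXE3
import Cfsg.Agent.Lib.FX.FXA0
import Cfsg.Agent.Lib.FX.FXTRANSFER
import Cfsg.Agent.Lib.FX.FXHOMFIX
import Cfsg.Agent.Lib.FX.FXA1
import Cfsg.Agent.Lib.FX.FXFRAT
import Cfsg.Agent.Lib.FX.FXGENNE
import Cfsg.Agent.Lib.FX.FXPHI0
import Cfsg.Agent.Lib.FX.FXPHIF
import Cfsg.Agent.Lib.FX.FXCC
import Cfsg.Agent.Lib.FX.FXPOLAR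
import Cfsg.Agent.Lib.FX.FXENDA
import Cfsg.Agent.Lib.FX.FXBB1
import Cfsg.Agent.Lib.FX.FXBB3
import Cfsg.Agent.Lib.FX.FXISQ
import Cfsg.Agent.Lib.Helper19.PGroupBasic
import Cfsg.Agent.Lib.Helper22.QAutCARDSUP

/-! S3816 piece FX-QF (helper14 design; see plans/S3816_plan.md).  Proved by helper25.  (Stub note: overwrite this file, keeping the
statement(s), namespace, variables and imports (extra imports of Mathlib / landed Lib files allowed; every
EARLIER FX piece is already imported and may be used as a black box). Aux lemmas: fresh names `fx_qf_...`.) -/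

set_option autoImplicit false

namespace Cfsg.Agent.Helper14.FX

open Subgroup

universe u

variable {X : Type u} [Group X]

section BB
variable [Finite X] {p : ℕ} [Fact p.Prime] {a : X} {K V Q : Subgroup X} {r s : ℕ}

theorem isQ_facts (h : MinCE p a K) (hV : IsMin a K V r) (hB : ¬ ∀ v ∈ V, ∀ k ∈ K, v * k = k * v)
    (hQ : IsQ a K V Q s) : s ≠ r ∧ Q ⊓ V = ⊥ ∧ Q ≠ ⊥ ∧ Q ⊓ Subgroup.centralizer (V : Set X) = ⊥ := by
  haveI : Fact r.Prime := ⟨hV.prime⟩
  haveI : Fact s.Prime := ⟨hQ.prime⟩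
  have hVK : V ≤ K := hV.le
  have hQK : Q ≤ K := hQ.le
  -- `K` normalises `V`
  have hKnV : K ≤ normalizer (V : Set X) := by
    intro k hk
    rw [Subgroup.mem_normalizer_iff]
    intro v
    constructor
    · intro hv
      exact hV.nml k hk v hv
    · intro hv
      have h1 := hV.nml k⁻¹ (K.inv_mem hk) _ hv
      have e : k⁻¹ * (k * v * k⁻¹) * k⁻¹⁻¹ = v := by group
      rwa [e] at h1
  have hVr : IsPGroup r ↥V := by
    intro v
    refine ⟨1, ?_⟩
    apply Subtype.ext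
    rw [pow_one]
    simp only [Subgroup.coe_pow, Subgroup.coe_one]
    exact hV.exp v v.2
  -- step 1: `s ≠ r`
  have h1 : s ≠ r := by
    intro hsr
    subst hsr
    -- `K` is an `s`-group
    have hdvd := Cfsg.Agent.Helper22.QAut.card_sup_dvd_of_le_normalizer Q V (hQK.trans hKnV)
    rw [hQ.sup] at hdvd
    obtain ⟨i, hi⟩ := IsPGroup.iff_card.mp hQ.pg
    obtain ⟨j, hj⟩ := IsPGroup.iff_card.mp hVr
    rw [hi, hj, ← pow_add] at hdvd
    obtain ⟨c, -, hc⟩ := (Nat.dvd_prime_pow hQ.prime).mp hdvd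
    have hKs : IsPGroup s ↥K := IsPGroup.of_card hc
    -- `V` as a normal subgroup of `K`
    haveI hn : (V.subgroupOf K).Normal := by
      constructor
      intro v hv k
      rw [Subgroup.mem_subgroupOf] at hv ⊢
      simp only [Subgroup.coe_mul, Subgroup.coe_inv]
      exact hV.nml k k.2 v hv
    have hne : V.subgroupOf K ≠ ⊥ := by
      intro hb
      apply hV.ne_bot
      rw [Subgroup.subgroupOf_eq_bot, disjoint_iff, inf_of_le_left hVK] at hb
      exact hb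
    have hz := Cfsg.Agent.Helper19.normal_inf_center_ne_bot hKs (V.subgroupOf K) hne
    rw [Ne, Subgroup.eq_bot_iff_forall] at hz
    push_neg at hz
    obtain ⟨x, hx, hx1⟩ := hz
    -- the central part of `V`
    have hWle : V ⊓ centralizer (K : Set X) ≤ V := inf_le_left
    have hWn : Nml K (V ⊓ centralizer (K : Set X)) := by
      intro k hk w hw
      have h2 : k * w = w * k := (Subgroup.mem_centralizer_iff.mp hw.2) k hk
      have e : k * w * k⁻¹ = w := by rw [h2]; group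
      rw [e]; exact hw
    have hWi : Inv a (V ⊓ centralizer (K : Set X)) := by
      intro w hw
      refine Subgroup.mem_inf.mpr ⟨hV.inv w hw.1, ?_⟩
      rw [Subgroup.mem_centralizer_iff]
      intro k hk
      have h2 : a⁻¹ * k * a ∈ K := inv_inv h.hyp.inv k hk
      have h3 : (a⁻¹ * k * a) * w = w * (a⁻¹ * k * a) := (Subgroup.mem_centralizer_iff.mp hw.2) _ h2
      calc k * (a * w * a⁻¹) = a * ((a⁻¹ * k * a) * w) * a⁻¹ := by group
        _ = a * (w * (a⁻¹ * k * a)) * a⁻¹ := by rw [h3]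
        _ = a * w * a⁻¹ * k := by group
    rcases hV.min _ hWle hWn hWi with hb | he
    · apply hx1
      have hxW : (x : X) ∈ V ⊓ centralizer (K : Set X) := by
        refine Subgroup.mem_inf.mpr ⟨Subgroup.mem_subgroupOf.mp hx.1, ?_⟩
        rw [Subgroup.mem_centralizer_iff]
        intro k hk
        have h2 := (Subgroup.mem_center_iff.mp hx.2) ⟨k, hk⟩
        exact congrArg Subtype.val h2
      rw [hb, Subgroup.mem_bot] at hxW
      exact Subtype.ext hxW
    · apply hB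
      intro v hv k hk
      have hvW : v ∈ V ⊓ centralizer (K : Set X) := by rw [he]; exact hv
      exact ((Subgroup.mem_centralizer_iff.mp hvW.2) k hk).symm
  -- step 2: `Q ⊓ V = ⊥`
  have h2 : Q ⊓ V = ⊥ :=
    (IsPGroup.disjoint_of_ne s r h1 Q V hQ.pg hVr).eq_bot
  -- step 3: `Q ≠ ⊥`
  have h3 : Q ≠ ⊥ := by
    intro hb
    apply V_ne_K h hV
    rw [← hQ.sup, hb, bot_sup_eq]
  refine ⟨h1, h2, h3, ?_⟩
  -- step 4: `C_Q(V) = ⊥`
  by_contra hne
  have hNK : Q ⊓ centralizer (V : Set X) ≤ K := inf_le_left.trans hQK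
  -- `K` normalises `N = C_Q(V)`
  have hQnN : Q ≤ normalizer ((Q ⊓ centralizer (V : Set X) : Subgroup X) : Set X) := by
    intro g hg
    rw [Subgroup.mem_normalizer_iff]
    have key : ∀ g ∈ Q, ∀ n ∈ Q ⊓ centralizer (V : Set X), g * n * g⁻¹ ∈ Q ⊓ centralizer (V : Set X) := by
      intro g hg n hn
      refine Subgroup.mem_inf.mpr ⟨Q.mul_mem (Q.mul_mem hg hn.1) (Q.inv_mem hg), ?_⟩
      rw [Subgroup.mem_centralizer_iff]
      intro v hv
      have hv' : g⁻¹ * v * g⁻¹⁻¹ ∈ V := hV.nml g⁻¹ (K.inv_mem (hQK hg)) v hv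
      have h4 : (g⁻¹ * v * g⁻¹⁻¹) * n = n * (g⁻¹ * v * g⁻¹⁻¹) :=
        (Subgroup.mem_centralizer_iff.mp hn.2) _ hv'
      calc v * (g * n * g⁻¹) = g * ((g⁻¹ * v * g⁻¹⁻¹) * n) * g⁻¹ := by group
        _ = g * (n * (g⁻¹ * v * g⁻¹⁻¹)) * g⁻¹ := by rw [h4]
        _ = g * n * g⁻¹ * v := by group
    intro n
    constructor
    · intro hn
      exact key g hg n hn
    · intro hn
      have := key g⁻¹ (Q.inv_mem hg) _ hn
      have e : g⁻¹ * (g * n * g⁻¹) * g⁻¹⁻¹ = n := by group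
      rwa [e] at this
  have hVnN : V ≤ normalizer ((Q ⊓ centralizer (V : Set X) : Subgroup X) : Set X) := by
    intro v hv
    rw [Subgroup.mem_normalizer_iff]
    intro n
    have key : ∀ n ∈ Q ⊓ centralizer (V : Set X), v * n * v⁻¹ = n := by
      intro n hn
      have h4 : v * n = n * v := (Subgroup.mem_centralizer_iff.mp hn.2) v hv
      rw [h4]; group
    constructor
    · intro hn
      rw [key n hn]; exact hn
    · intro hn
      have h5 : v⁻¹ * (v * n * v⁻¹) * v⁻¹⁻¹ = v * n * v⁻¹ := by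
        have h4 : v⁻¹ * (v * n * v⁻¹) = (v * n * v⁻¹) * v⁻¹ :=
          (Subgroup.mem_centralizer_iff.mp hn.2) v⁻¹ (V.inv_mem hv)
        rw [h4]; group
      have e : v⁻¹ * (v * n * v⁻¹) * v⁻¹⁻¹ = n := by group
      rw [e] at h5
      rw [h5]; exact hn
  have hKnN : K ≤ normalizer ((Q ⊓ centralizer (V : Set X) : Subgroup X) : Set X) := by
    rw [← hQ.sup]
    exact sup_le hQnN hVnN
  have hNn : Nml K (Q ⊓ centralizer (V : Set X)) := by
    intro k hk n hn
    exact (Subgroup.mem_normalizer_iff.mp (hKnN hk) n).mp hn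
  have hNi : Inv a (Q ⊓ centralizer (V : Set X)) := by
    intro n hn
    refine Subgroup.mem_inf.mpr ⟨hQ.inv n hn.1, ?_⟩
    rw [Subgroup.mem_centralizer_iff]
    intro v hv
    have hv' : a⁻¹ * v * a ∈ V := inv_inv hV.inv v hv
    have h4 : (a⁻¹ * v * a) * n = n * (a⁻¹ * v * a) := (Subgroup.mem_centralizer_iff.mp hn.2) _ hv'
    calc v * (a * n * a⁻¹) = a * ((a⁻¹ * v * a) * n) * a⁻¹ := by group
      _ = a * (n * (a⁻¹ * v * a)) * a⁻¹ := by rw [h4]
      _ = a * n * a⁻¹ * v := by group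
  have hr := prime_dvd h hV hNK hNn hNi hne
  -- but `N` is an `s`-group
  have hNs : IsPGroup s ↥(Q ⊓ centralizer (V : Set X) : Subgroup X) := hQ.pg.to_le inf_le_left
  obtain ⟨i, hi⟩ := IsPGroup.iff_card.mp hNs
  rw [hi] at hr
  have := (Nat.prime_dvd_prime_iff_eq hV.prime hQ.prime).mp (hV.prime.dvd_of_dvd_pow hr)
  exact h1 this.symm

end BB

end Cfsg.Agent.Helper14.FX
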