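import Mathlib
import Cfsg.Agent.Lib.FX.FXDefs
import Cfsg.Agent.Lib.FX.FXB1
import Cfsg.Agent.Lib.FX.FXB2A
import Cfsg.Agent.Lib.FX.FXB2B
import Cfsg.Agent.Lib.FX.FXB3
import Cfsg.Agent.Lib.FX.FXB4
import Cfsg.Agent.Lib.FX.FXB5
import Cfsg.Agent.Lib.FX.FXB6
import Cfsg.Agent.Lib.FX.FXQ1
import Cfsg.Agent.Lib.FX.FXQ1B
import Cfsg.Agent.Lib.FX.FXQGEN
import Cfsg.Agent.Lib.FX.FXQSTEP
import Cfsg.Agent.Lib.FX.FXM1
import Cfsg.Agent.Lib.FX.FXMIN
import Cfsg.Agent.Lib.FX.FXM5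
import Cfsg.Agent.Lib.FX.FXM5C
import Cfsg.Agent.Lib.FX.FXM6
import Cfsg.Agent.Lib.FX.FXE1
import Cfsg.Agent.Lib.FX.FXE2
import Cfsg.Agent.Lib.FX.FXE3
import Cfsg.Agent.Lib.FX.FXA0
import Cfsg.Agent.Lib.FX.FXTRANSFER
import Cfsg.Agent.Lib.FX.FXHOMFIX
import Cfsg.Agent.Lib.FX.FXA1
import Cfsg.Agent.Lib.FX.FXFRAT
import Cfsg.Agent.Lib.FX.FXGENNE
import Cfsg.Agent.Lib.FX.FXPHI0
import Cfsg.Agent.Lib.FX.FXPHIF
import Cfsg.Agent.Lib.FX.FXCC
import Cfsg.Agent.Lib.FX.FXPOLAR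
import Cfsg.Agent.Lib.FX.FXENDA
import Cfsg.Agent.Lib.FX.FXBB1
import Cfsg.Agent.Lib.FX.FXBB3
import Cfsg.Agent.Lib.FX.FXISQ
import Cfsg.Agent.Lib.FX.FXQF

/-! S3816 piece FX-QIRR (helper14 design; see plans/S3816_plan.md).  STUB: overwrite this file, keeping the
statement(s), namespace, variables and imports (extra imports of Mathlib / landed Lib files allowed; every
EARLIER FX piece is already imported and may be used as a black box). Aux lemmas: fresh names `fx_qirr_...`. -/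

set_option autoImplicit false

namespace Cfsg.Agent.Helper14.FX

open Subgroup
open scoped commutatorElement

universe u

variable {X : Type u} [Group X]

section BB
variable [Finite X] {p : ℕ} [Fact p.Prime] {a : X} {K V Q : Subgroup X} {r s : ℕ}

theorem fx_qirr_nml_of_sup {A B W : Subgroup X} (hA : Nml A W) (hB : Nml B W) : Nml (A ⊔ B) W := by
  have h1 : A ⊔ B ≤ normalizer (W : Set X) :=
    sup_le (fx_b4_nml_le_normalizer hA) (fx_b4_nml_le_normalizer hB)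
  intro k hk w hw
  exact ((Subgroup.mem_normalizer_iff.1 (h1 hk)) w).1 hw

theorem eq_bot_of_nml (h : MinCE p a K) (hV : IsMin a K V r) (hB : ¬ ∀ v ∈ V, ∀ k ∈ K, v * k = k * v)
    (hQ : IsQ a K V Q s) {Q₁ : Subgroup X} (h1 : Q₁ ≤ Q) (hn : Nml Q Q₁) (hi : Inv a Q₁) (hne : Q₁ ≠ Q) :
    Q₁ = ⊥ := by
  classical
  obtain ⟨hsr, hQV, hQne, hCQV⟩ := isQ_facts h hV hB hQ
  have hQ₁K : Q₁ ≤ K := h1.trans hQ.le
  have hne' : Q₁ ⊔ V ≠ K := by
    intro heq
    apply hne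
    apply le_antisymm h1
    intro q hq
    have hqK : q ∈ Q₁ ⊔ V := heq ▸ hQ.le hq
    have hnorm : Q₁ ≤ normalizer (V : Set X) :=
      fx_b4_nml_le_normalizer (fun k hk v hv => hV.nml k (hQ₁K hk) v hv)
    rw [← SetLike.mem_coe, Subgroup.coe_mul_of_left_le_normalizer_right Q₁ V hnorm] at hqK
    obtain ⟨q₁, hq₁, v, hv, rfl⟩ := Set.mem_mul.1 hqK
    have hvQ : v ∈ Q := by
      have := mul_mem (inv_mem (h1 hq₁)) hq
      simpa using this
    have : v ∈ Q ⊓ V := Subgroup.mem_inf.2 ⟨hvQ, hv⟩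
    rw [hQV, Subgroup.mem_bot] at this
    rw [this, mul_one]; exact hq₁
  have hcomm := comm_mem_V0 h hV hQ₁K hi hne'
  set W : Subgroup X := Subgroup.closure {c : X | ∃ k ∈ Q₁, ∃ v ∈ V, c = v⁻¹ * (k⁻¹ * v * k)} with hW
  have hWV0 : W ≤ cKer a K V := by
    rw [hW, Subgroup.closure_le]
    rintro c ⟨k, hk, v, hv, rfl⟩
    exact hcomm k hk v hv
  have hWV : W ≤ V := hWV0.trans (cKer_le hV.inv)
  have hWne : W ≠ V := fun e => V0_ne h hV (le_antisymm (cKer_le hV.inv) (e ▸ hWV0))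
  have hnQ : Nml Q W := by
    intro q hq w hw
    refine fx_b3_conj_closure q _ W ?_ w hw
    rintro c ⟨k, hk, v, hv, rfl⟩
    have e : q * (v⁻¹ * (k⁻¹ * v * k)) * q⁻¹ =
        (q * v * q⁻¹)⁻¹ * ((q * k * q⁻¹)⁻¹ * (q * v * q⁻¹) * (q * k * q⁻¹)) := by group
    rw [e]
    exact Subgroup.subset_closure ⟨_, hn q hq k hk, _, hV.nml q (hQ.le hq) v hv, rfl⟩
  have hnV : Nml V W := by
    intro v hv w hw
    have : v * w * v⁻¹ = w := by
      rw [hV.comm v hv w (hWV hw), mul_inv_cancel_right]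
    rw [this]; exact hw
  have hnK : Nml K W := by
    have := fx_qirr_nml_of_sup hnQ hnV
    rw [hQ.sup] at this
    exact this
  have hiW : Inv a W := by
    intro w hw
    refine fx_b2a_closure_conj a _ W ?_ w hw
    rintro c ⟨k, hk, v, hv, rfl⟩
    have e : a * (v⁻¹ * (k⁻¹ * v * k)) * a⁻¹ =
        (a * v * a⁻¹)⁻¹ * ((a * k * a⁻¹)⁻¹ * (a * v * a⁻¹) * (a * k * a⁻¹)) := by group
    rw [e]
    exact Subgroup.subset_closure ⟨_, hi k hk, _, hV.inv v hv, rfl⟩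
  have hWbot : W = ⊥ := (hV.min W hWV hnK hiW).resolve_right hWne
  -- so Q₁ centralizes V
  have hcent : Q₁ ≤ Q ⊓ Subgroup.centralizer (V : Set X) := by
    intro k hk
    refine Subgroup.mem_inf.2 ⟨h1 hk, ?_⟩
    rw [Subgroup.mem_centralizer_iff]
    intro v hv
    have hc : v⁻¹ * (k⁻¹ * v * k) ∈ W := Subgroup.subset_closure ⟨k, hk, v, hv, rfl⟩
    rw [hWbot, Subgroup.mem_bot] at hc
    have h2 : k⁻¹ * v * k = v := by
      have := congrArg (fun t => v * t) hc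
      simpa using this
    calc v * k = k * (k⁻¹ * v * k) := by group
      _ = k * v := by rw [h2]
  rw [hCQV] at hcent
  exact le_bot_iff.1 hcent

theorem Q_irred (h : MinCE p a K) (hV : IsMin a K V r) (hB : ¬ ∀ v ∈ V, ∀ k ∈ K, v * k = k * v)
    (hQ : IsQ a K V Q s) :
    (∀ x ∈ Q, ∀ y ∈ Q, x * y = y * x) ∧ ∀ Q₁ : Subgroup X, Q₁ ≤ Q → Inv a Q₁ → Q₁ = ⊥ ∨ Q₁ = Q := by
  classical
  obtain ⟨hsr, hQV, hQne, hCQV⟩ := isQ_facts h hV hB hQ
  haveI : Fact s.Prime := ⟨hQ.prime⟩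
  -- the commutator subgroup of Q
  set D : Subgroup X := ⁅Q, Q⁆ with hD
  have hDQ : D ≤ Q := Subgroup.commutator_le.2 (fun x hx y hy =>
    mul_mem (mul_mem (mul_mem hx hy) (inv_mem hx)) (inv_mem hy))
  have hDne : D ≠ Q := by
    intro heq
    -- Q nilpotent nontrivial, so ⁅Q,Q⁆ < Q
    haveI : Group.IsNilpotent ↥Q := hQ.pg.isNilpotent
    haveI : Group.IsSolvable ↥Q := inferInstance
    have hcomm : commutator ↥Q = ⊤ := by
      rw [eq_top_iff]
      rintro ⟨x, hx⟩ _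
      have hxD : x ∈ ⁅Q, Q⁆ := by rw [← hD, heq]; exact hx
      have hmap : (commutator ↥Q).map Q.subtype = ⁅Q, Q⁆ := by
        rw [commutator_def, Subgroup.map_commutator, ← MonoidHom.range_eq_map, Subgroup.range_subtype]
      rw [← hmap] at hxD
      obtain ⟨y, hy, hyx⟩ := Subgroup.mem_map.1 hxD
      have : y = ⟨x, hx⟩ := Subtype.ext hyx
      rw [← this]; exact hy
    have hbot : (⊤ : Subgroup ↥Q) = ⊥ := by
      have hder : ∀ n, derivedSeries ↥Q n = ⊤ := by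
        intro n
        induction n with
        | zero => rfl
        | succ n ih =>
          rw [derivedSeries_succ, ih]
          exact hcomm
      obtain ⟨n, hn⟩ := (Group.isSolvable_def ↥Q).1 inferInstance
      rw [hder n] at hn
      exact hn
    apply hQne
    rw [eq_bot_iff]
    intro x hx
    have : (⟨x, hx⟩ : ↥Q) ∈ (⊥ : Subgroup ↥Q) := by rw [← hbot]; exact Subgroup.mem_top _
    rw [Subgroup.mem_bot] at this
    rw [Subgroup.mem_bot]
    exact congrArg Subtype.val this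
  have hDn : Nml Q D := by
    intro q hq d hd
    have hnorm : (⁅Q, Q⁆ : Subgroup X) ≤ ⁅Q, Q⁆ := le_rfl
    -- conjugation by q ∈ Q preserves ⁅Q, Q⁆
    have : ∀ d ∈ (⁅Q, Q⁆ : Subgroup X), q * d * q⁻¹ ∈ (⁅Q, Q⁆ : Subgroup X) := by
      intro d hd
      have h2 : q * d * q⁻¹ = ⁅q, d⁆ * d := by
        rw [commutatorElement_def]; group
      rw [h2]
      exact mul_mem (Subgroup.commutator_mem_commutator hq (hDQ hd)) hd
    exact this d hd
  have hDi : Inv a D := by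
    intro d hd
    have hle : (⁅Q, Q⁆ : Subgroup X) ≤ (⁅Q, Q⁆ : Subgroup X).comap (MulAut.conj a).toMonoidHom := by
      rw [Subgroup.commutator_le]
      intro x hx y hy
      rw [Subgroup.mem_comap]
      have : (MulAut.conj a).toMonoidHom ⁅x, y⁆ = ⁅a * x * a⁻¹, a * y * a⁻¹⁆ := by
        simp only [MulEquiv.coe_toMonoidHom, MulAut.conj_apply, commutatorElement_def]
        group
      rw [this]
      exact Subgroup.commutator_mem_commutator (hQ.inv x hx) (hQ.inv y hy)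
    have := hle hd
    rw [Subgroup.mem_comap] at this
    simpa [MulAut.conj_apply] using this
  have hDbot : D = ⊥ := eq_bot_of_nml h hV hB hQ hDQ hDn hDi hDne
  have hab : ∀ x ∈ Q, ∀ y ∈ Q, x * y = y * x := by
    intro x hx y hy
    have : ⁅x, y⁆ ∈ D := Subgroup.commutator_mem_commutator hx hy
    rw [hDbot, Subgroup.mem_bot] at this
    exact commutatorElement_eq_one_iff_mul_comm.1 this
  refine ⟨hab, ?_⟩
  intro Q₁ h1 hi
  by_cases hne : Q₁ = Q
  · exact Or.inr hne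
  · left
    refine eq_bot_of_nml h hV hB hQ h1 ?_ hi hne
    intro q hq k hk
    rw [hab q hq k (h1 hk), mul_inv_cancel_right]
    exact hk

end BB

end Cfsg.Agent.Helper14.FX
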