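import Mathlib
import Cfsg.Agent.Lib.FX.FXDefs
import Cfsg.Agent.Lib.FX.FXB1
import Cfsg.Agent.Lib.FX.FXB2A
import Cfsg.Agent.Lib.FX.FXB2B
import Cfsg.Agent.Lib.FX.FXB3
import Cfsg.Agent.Lib.FX.FXB4
import Cfsg.Agent.Lib.FX.FXB5
import Cfsg.Agent.Lib.FX.FXB6
import Cfsg.Agent.Lib.FX.FXQ1
import Cfsg.Agent.Lib.FX.FXQ1B
import Cfsg.Agent.Lib.FX.FXQGEN
import Cfsg.Agent.Lib.FX.FXQSTEP
import Cfsg.Agent.Lib.FX.FXM1
import Cfsg.Agent.Lib.FX.FXMIN
import Cfsg.Agent.Lib.FX.FXM5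
import Cfsg.Agent.Lib.FX.FXM5C
import Cfsg.Agent.Lib.FX.FXM6
import Cfsg.Agent.Lib.FX.FXE1
import Cfsg.Agent.Lib.FX.FXE2
import Cfsg.Agent.Lib.FX.FXE3
import Cfsg.Agent.Lib.FX.FXA0
import Cfsg.Agent.Lib.FX.FXTRANSFER
import Cfsg.Agent.Lib.FX.FXHOMFIX
import Cfsg.Agent.Lib.FX.FXA1
import Cfsg.Agent.Lib.FX.FXFRAT
import Cfsg.Agent.Lib.FX.FXGENNE
import Cfsg.Agent.Lib.FX.FXPHI0
import Cfsg.Agent.Lib.FX.FXPHIF
import Cfsg.Agent.Lib.FX.FXCC
import Cfsg.Agent.Lib.FX.FXPOLAR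
import Cfsg.Agent.Lib.FX.FXENDA
import Cfsg.Agent.Lib.FX.FXBB1
import Cfsg.Agent.Lib.FX.FXBB3
import Cfsg.Agent.Lib.FX.FXISQ
import Cfsg.Agent.Lib.FX.FXQF
import Cfsg.Agent.Lib.FX.FXQIRR

/-! S3816 piece FX-QFPF (helper14 design; see plans/S3816_plan.md).  STUB: overwrite this file, keeping the
statement(s), namespace, variables and imports (extra imports of Mathlib / landed Lib files allowed; every
EARLIER FX piece is already imported and may be used as a black box). Aux lemmas: fresh names `fx_qfpf_...`. -/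

set_option autoImplicit false

namespace Cfsg.Agent.Helper14.FX

open Subgroup

universe u

variable {X : Type u} [Group X]

section BB
variable [Finite X] {p : ℕ} [Fact p.Prime] {a : X} {K V Q : Subgroup X} {r s : ℕ}

theorem Q_fpf (h : MinCE p a K) (hV : IsMin a K V r) (hB : ¬ ∀ v ∈ V, ∀ k ∈ K, v * k = k * v)
    (hQ : IsQ a K V Q s) : Q ⊓ cC a = ⊥ ∧ K ⊓ cC a = V ⊓ cC a ∧ orderOf a = p := by
  classical
  obtain ⟨hsr, hQV, hQne, hCQV⟩ := isQ_facts h hV hB hQ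
  obtain ⟨hab, hirr⟩ := Q_irred h hV hB hQ
  have hnorm : Q ≤ normalizer (V : Set X) :=
    fx_b4_nml_le_normalizer (fun k hk v hv => hV.nml k (hQ.le hk) v hv)
  have hdecomp : ∀ k ∈ K, ∃ q ∈ Q, ∃ v ∈ V, k = q * v := by
    intro k hk
    rw [← hQ.sup, ← SetLike.mem_coe, Subgroup.coe_mul_of_left_le_normalizer_right Q V hnorm] at hk
    obtain ⟨q, hq, v, hv, rfl⟩ := Set.mem_mul.1 hk
    exact ⟨q, hq, v, hv, rfl⟩
  -- (1)
  have h1 : Q ⊓ cC a = ⊥ := by
    rcases hirr (Q ⊓ cC a) inf_le_left (inv_inf hQ.inv (inv_cC a)) with hbot | htop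
    · exact hbot
    · exfalso
      have hQC : Q ≤ cC a := by rw [← htop]; exact inf_le_right
      apply V_ne_K h hV
      apply le_antisymm hV.le
      rw [← cDK_eq h, cDK_le_iff]
      intro g hg i
      obtain ⟨q, hq, v, hv, rfl⟩ := hdecomp g hg
      have hqa : a ^ i * q = q * a ^ i := by
        have hc := mem_cC.1 (hQC hq)
        have : Commute a q := hc
        exact (this.pow_left i).eq
      have e : (q * v)⁻¹ * (a ^ i * (q * v) * (a ^ i)⁻¹) = v⁻¹ * (a ^ i * v * (a ^ i)⁻¹) := by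
        have : a ^ i * (q * v) * (a ^ i)⁻¹ = q * (a ^ i * v * (a ^ i)⁻¹) := by
          calc a ^ i * (q * v) * (a ^ i)⁻¹ = (a ^ i * q) * v * (a ^ i)⁻¹ := by group
            _ = (q * a ^ i) * v * (a ^ i)⁻¹ := by rw [hqa]
            _ = _ := by group
        rw [this]; group
      rw [e]
      exact mul_mem (inv_mem hv) (inv_pow hV.inv i v hv)
  refine ⟨h1, ?_, ?_⟩
  · apply le_antisymm
    · intro k hk
      obtain ⟨hkK, hkC⟩ := Subgroup.mem_inf.1 hk
      obtain ⟨q, hq, v, hv, rfl⟩ := hdecomp k hkK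
      have hfix : a * (q * v) * a⁻¹ = q * v := by
        rw [mem_cC.1 hkC, mul_inv_cancel_right]
      have hmem : q⁻¹ * (a * q * a⁻¹) ∈ Q ⊓ V := by
        refine Subgroup.mem_inf.2 ⟨mul_mem (inv_mem hq) (hQ.inv q hq), ?_⟩
        have e : q⁻¹ * (a * q * a⁻¹) = v * (a * v * a⁻¹)⁻¹ := by
          have e1 : a * (q * v) * a⁻¹ = (a * q * a⁻¹) * (a * v * a⁻¹) := by group
          rw [e1] at hfix
          calc q⁻¹ * (a * q * a⁻¹) = q⁻¹ * ((a * q * a⁻¹) * (a * v * a⁻¹)) * (a * v * a⁻¹)⁻¹ := by group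
            _ = q⁻¹ * (q * v) * (a * v * a⁻¹)⁻¹ := by rw [hfix]
            _ = _ := by group
        rw [e]
        exact mul_mem hv (inv_mem (hV.inv v hv))
      rw [hQV, Subgroup.mem_bot] at hmem
      have hqfix : a * q * a⁻¹ = q := by
        have := congrArg (fun t => q * t) hmem
        simpa using this
      have hqC : q ∈ Q ⊓ cC a := by
        refine Subgroup.mem_inf.2 ⟨hq, ?_⟩
        rw [mem_cC]
        calc a * q = (a * q * a⁻¹) * a := by group
          _ = q * a := by rw [hqfix]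
      rw [h1, Subgroup.mem_bot] at hqC
      subst hqC
      rw [one_mul] at hkC ⊢
      exact Subgroup.mem_inf.2 ⟨hv, hkC⟩
    · exact inf_le_inf_right _ hV.le
  · have hdvd : orderOf a ∣ p := orderOf_dvd_of_pow_eq_one h.hyp.pow
    rcases (Nat.dvd_prime (Fact.out : p.Prime)).1 hdvd with h0 | h0
    · exfalso
      have ha1 : a = 1 := orderOf_eq_one_iff.1 h0
      apply hQne
      rw [← h1]
      apply le_antisymm
      · intro q hq
        refine Subgroup.mem_inf.2 ⟨hq, ?_⟩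
        rw [mem_cC, ha1, one_mul, mul_one]
      · exact inf_le_left
    · exact h0

end BB

end Cfsg.Agent.Helper14.FX
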