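import Mathlib
import Cfsg.Agent.Lib.FX.FXDefs
import Cfsg.Agent.Lib.FX.FXB1
import Cfsg.Agent.Lib.FX.FXB2A
import Cfsg.Agent.Lib.FX.FXB2B
import Cfsg.Agent.Lib.FX.FXB3
import Cfsg.Agent.Lib.FX.FXB4
import Cfsg.Agent.Lib.FX.FXB5
import Cfsg.Agent.Lib.FX.FXB6
import Cfsg.Agent.Lib.FX.FXQ1
import Cfsg.Agent.Lib.FX.FXQ1B
import Cfsg.Agent.Lib.FX.FXQGEN
import Cfsg.Agent.Lib.FX.FXQSTEP
import Cfsg.Agent.Lib.FX.FXM1
import Cfsg.Agent.Lib.FX.FXMIN
import Cfsg.Agent.Lib.FX.FXM5
import Cfsg.Agent.Lib.FX.FXM5C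
import Cfsg.Agent.Lib.FX.FXM6
import Cfsg.Agent.Lib.FX.FXE1
import Cfsg.Agent.Lib.FX.FXE2
import Cfsg.Agent.Lib.FX.FXE3
import Cfsg.Agent.Lib.FX.FXA0
import Cfsg.Agent.Lib.FX.FXTRANSFER
import Cfsg.Agent.Lib.FX.FXHOMFIX
import Cfsg.Agent.Lib.FX.FXA1
import Cfsg.Agent.Lib.FX.FXFRAT
import Cfsg.Agent.Lib.FX.FXGENNE
import Cfsg.Agent.Lib.FX.FXPHI0
import Cfsg.Agent.Lib.FX.FXPHIF
import Cfsg.Agent.Lib.FX.FXCC
import Cfsg.Agent.Lib.FX.FXPOLAR
import Cfsg.Agent.Lib.FX.FXENDA
import Cfsg.Agent.Lib.FX.FXBB1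
import Cfsg.Agent.Lib.FX.FXBB3
import Cfsg.Agent.Lib.FX.FXISQ
import Cfsg.Agent.Lib.FX.FXQF
import Cfsg.Agent.Lib.FX.FXQIRR
import Cfsg.Agent.Lib.FX.FXQFPF
import Cfsg.Agent.Lib.Helper8.SecRep5
import Cfsg.Agent.Lib.Helper22.QAutCARDSUP

/-! S3816 piece FX-CARDV (helper14 design; see plans/S3816_plan.md), proved by helper12 from the earlier FX
pieces and helper8's Frobenius-Wielandt formula. -/

set_option autoImplicit false

namespace Cfsg.Agent.Helper14.FX

open Subgroup

universe u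

variable {X : Type u} [Group X]

section BB
variable [Finite X] {p : ℕ} [Fact p.Prime] {a : X} {K V Q : Subgroup X} {r s : ℕ}

/-- one-sided conjugation invariance of a finite subgroup gives the normalizer -/
theorem fx_cardv_le_normalizer {A B : Subgroup X} (h : ∀ x ∈ A, ∀ y ∈ B, x * y * x⁻¹ ∈ B) :
    A ≤ Subgroup.normalizer (B : Set X) :=
  Cfsg.Agent.Helper8.SecRep.normalizer_of_conj h

/-- `a` normalizes an `a`-invariant subgroup -/
theorem fx_cardv_zpowers_le {B : Subgroup X} (h : Inv a B) :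
    Subgroup.zpowers a ≤ Subgroup.normalizer (B : Set X) := by
  rw [Subgroup.zpowers_le]
  rw [Subgroup.mem_normalizer_iff]
  intro x
  constructor
  · exact h x
  · intro hx
    have h1 := inv_inv h _ hx
    have h2 : a⁻¹ * (a * x * a⁻¹) * a = x := by group
    rwa [h2] at h1

/-- a nontrivial power of an element of prime order generates the same cyclic group -/
theorem fx_cardv_mem_zpowers (ha : orderOf a = p) {e : X} (he : e ∈ Subgroup.zpowers a)
    (hne : e ≠ 1) : a ∈ Subgroup.zpowers e := by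
  have hp : p.Prime := Fact.out
  have hle : Subgroup.zpowers e ≤ Subgroup.zpowers a := by
    rw [Subgroup.zpowers_le]; exact he
  have hcarda : Nat.card (Subgroup.zpowers a) = p := by rw [Nat.card_zpowers, ha]
  have hdvd : Nat.card (Subgroup.zpowers e) ∣ p := by
    rw [← hcarda]; exact Subgroup.card_dvd_of_le hle
  have hcarde : Nat.card (Subgroup.zpowers e) = p := by
    rcases (Nat.dvd_prime hp).1 hdvd with h1 | h1
    · exfalso
      rw [Nat.card_zpowers] at h1
      exact hne (orderOf_eq_one_iff.1 h1)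
    · exact h1
  have heq : Subgroup.zpowers e = Subgroup.zpowers a :=
    Subgroup.eq_of_le_of_card_ge hle (by rw [hcarda, hcarde])
  rw [heq]
  exact Subgroup.mem_zpowers a

theorem card_V (h : MinCE p a K) (hV : IsMin a K V r) (hB : ¬ ∀ v ∈ V, ∀ k ∈ K, v * k = k * v)
    (hQ : IsQ a K V Q s) : Nat.card V = Nat.card ↥(V ⊓ cC a) ^ p := by
  obtain ⟨hsr, hQV, hQne, hQcV⟩ := isQ_facts h hV hB hQ
  obtain ⟨hQC, hKC, hord⟩ := Q_fpf h hV hB hQ
  have hp : p.Prime := Fact.out
  have hrp : r.Prime := hV.prime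
  have hsp : s.Prime := hQ.prime
  -- cardinalities
  have hcardE : Nat.card (Subgroup.zpowers a) = p := by rw [Nat.card_zpowers, hord]
  -- `V` is an `r`-group
  have hVr : IsPGroup r V := by
    haveI : Fact r.Prime := ⟨hrp⟩
    intro x
    refine ⟨1, ?_⟩
    apply Subtype.ext
    rw [pow_one]
    simpa using hV.exp x x.2
  obtain ⟨m, hm⟩ : ∃ m : ℕ, Nat.card V = r ^ m := by
    haveI : Fact r.Prime := ⟨hrp⟩
    exact (IsPGroup.iff_card).1 hVr
  obtain ⟨m', hm'⟩ : ∃ m' : ℕ, Nat.card Q = s ^ m' := by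
    haveI : Fact s.Prime := ⟨hsp⟩
    exact (IsPGroup.iff_card).1 hQ.pg
  -- `r ≠ p`
  have hrne : r ≠ p := by
    intro hrp'
    have h1 : r ∣ Nat.card V := by
      have hVne : Nat.card V ≠ 1 := by
        intro h1
        exact hV.ne_bot (Subgroup.card_eq_one.1 h1)
      rw [hm] at hVne ⊢
      rcases Nat.eq_zero_or_pos m with h0 | h0
      · rw [h0, pow_zero] at hVne; exact absurd rfl hVne
      · exact dvd_pow_self r h0.ne'
    have h2 : r ∣ Nat.card K := h1.trans (Subgroup.card_dvd_of_le hV.le)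
    have h3 := h.hyp.cop
    rw [← hrp'] at h3
    exact hrp.one_lt.ne' (Nat.eq_one_of_dvd_coprimes h3 h2 dvd_rfl)
  -- normalizers
  have hEQ : Subgroup.zpowers a ≤ Subgroup.normalizer (Q : Set X) := fx_cardv_zpowers_le hQ.inv
  have hEV : Subgroup.zpowers a ≤ Subgroup.normalizer (V : Set X) := fx_cardv_zpowers_le hV.inv
  have hQnV : Q ≤ Subgroup.normalizer (V : Set X) :=
    fx_cardv_le_normalizer (fun q hq v hv => hV.nml q (hQ.le hq) v hv)
  have hUn : ∀ e ∈ Subgroup.zpowers a, ∀ u ∈ Q, e * u * e⁻¹ ∈ Q := by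
    intro e he u hu
    exact (Subgroup.mem_normalizer_iff.1 (hEQ he) u).1 hu
  have hfpf : ∀ e ∈ Subgroup.zpowers a, e ≠ 1 → ∀ u ∈ Q, e * u = u * e → u = 1 := by
    intro e he hne u hu hcomm
    have ha := fx_cardv_mem_zpowers hord he hne
    obtain ⟨j, hj⟩ := Subgroup.mem_zpowers_iff.1 ha
    have hcomm' : Commute e u := hcomm
    have h2 : Commute a u := by
      rw [← hj]; exact hcomm'.zpow_left j
    have h3 : u ∈ Q ⊓ cC a := by
      refine Subgroup.mem_inf.2 ⟨hu, ?_⟩
      rw [cC, Subgroup.mem_centralizer_iff]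
      intro y hy
      rw [Set.mem_singleton_iff] at hy
      rw [hy]
      exact h2.eq
    rw [hQC] at h3
    exact Subgroup.mem_bot.1 h3
  have hnil : Group.IsNilpotent ↥Q := by
    haveI : Fact s.Prime := ⟨hsp⟩
    exact hQ.pg.isNilpotent
  have hsolv : Group.IsSolvable ↥V :=
    Group.isSolvable_of_comm (fun x y => Subtype.ext (hV.comm x x.2 y y.2))
  have hnorm : Q ⊔ Subgroup.zpowers a ≤ Subgroup.normalizer (V : Set X) := sup_le hQnV hEV
  have hcop : (Nat.card ↥V).Coprime (Nat.card ↥(Q ⊔ Subgroup.zpowers a)) := by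
    have hdvd := Cfsg.Agent.Helper22.QAut.card_sup_dvd_of_le_normalizer (Subgroup.zpowers a) Q hEQ
    rw [sup_comm] at hdvd
    refine Nat.Coprime.coprime_dvd_right hdvd ?_
    rw [hm, hm', hcardE]
    apply Nat.Coprime.mul_right
    · exact Nat.Coprime.pow_left m ((Nat.coprime_primes hrp hp).2 hrne)
    · exact Nat.Coprime.pow m m' ((Nat.coprime_primes hrp hsp).2 (Ne.symm hsr))
  have hfw := Cfsg.Agent.Helper8.SecRep.fw_group Q (Subgroup.zpowers a) hUn hfpf hnil
    (Nat.card ↥V) V rfl hsolv hnorm hcop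
  -- `C_V(Q) = 1`
  have hW : V ⊓ Subgroup.centralizer (Q : Set X) = ⊥ := by
    set W : Subgroup X := V ⊓ Subgroup.centralizer (Q : Set X) with hWdef
    have hWV : W ≤ V := inf_le_left
    have hQW : Q ≤ Subgroup.normalizer (W : Set X) := by
      apply fx_cardv_le_normalizer
      intro q hq w hw
      have h1 : q * w = w * q := ((Subgroup.mem_centralizer_iff.1 hw.2) q hq)
      have h2 : q * w * q⁻¹ = w := by rw [h1]; group
      rw [h2]; exact hw
    have hVW : V ≤ Subgroup.normalizer (W : Set X) := by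
      apply fx_cardv_le_normalizer
      intro v hv w hw
      have h1 : v * w = w * v := hV.comm v hv w hw.1
      have h2 : v * w * v⁻¹ = w := by rw [h1]; group
      rw [h2]; exact hw
    have hKW : K ≤ Subgroup.normalizer (W : Set X) := by
      rw [← hQ.sup]; exact sup_le hQW hVW
    have hnml : Nml K W := by
      intro k hk w hw
      exact (Subgroup.mem_normalizer_iff.1 (hKW hk) w).1 hw
    have hinv : Inv a W := by
      intro w hw
      have hw1 : w ∈ V := (Subgroup.mem_inf.1 hw).1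
      have hw2 : w ∈ Subgroup.centralizer (Q : Set X) := (Subgroup.mem_inf.1 hw).2
      refine Subgroup.mem_inf.2 ⟨hV.inv w hw1, ?_⟩
      rw [Subgroup.mem_centralizer_iff]
      intro q hq
      have hq' : a⁻¹ * q * a ∈ Q := inv_inv hQ.inv q hq
      have h1 : (a⁻¹ * q * a) * w = w * (a⁻¹ * q * a) :=
        (Subgroup.mem_centralizer_iff.1 hw2) _ hq'
      calc q * (a * w * a⁻¹) = a * ((a⁻¹ * q * a) * w) * a⁻¹ := by group
        _ = a * (w * (a⁻¹ * q * a)) * a⁻¹ := by rw [h1]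
        _ = a * w * a⁻¹ * q := by group
    rcases hV.min W hWV hnml hinv with h0 | h0
    · exact h0
    · exfalso
      apply hQne
      rw [eq_bot_iff, ← hQcV]
      refine le_inf le_rfl ?_
      intro q hq
      rw [Subgroup.mem_centralizer_iff]
      intro v hv
      have hv' : v ∈ W := by rw [h0]; exact hv
      exact ((Subgroup.mem_centralizer_iff.1 hv'.2) q hq).symm
  have hW' : V ⊓ Subgroup.centralizer ((Q ⊔ Subgroup.zpowers a : Subgroup X) : Set X) = ⊥ := by
    rw [eq_bot_iff, ← hW]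
    refine inf_le_inf_left V ?_
    exact Subgroup.centralizer_le (by exact_mod_cast (le_sup_left : Q ≤ Q ⊔ Subgroup.zpowers a))
  have hCE : Subgroup.centralizer ((Subgroup.zpowers a : Subgroup X) : Set X) = cC a := by
    rw [cC]
    ext x
    rw [Subgroup.mem_centralizer_iff, Subgroup.mem_centralizer_iff]
    constructor
    · intro hx y hy
      rw [Set.mem_singleton_iff] at hy
      rw [hy]
      exact hx a (Subgroup.mem_zpowers a)
    · intro hx y hy
      obtain ⟨j, hj⟩ := Subgroup.mem_zpowers_iff.1 hy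
      have h1 : Commute a x := hx a rfl
      rw [← hj]
      exact (h1.zpow_left j).eq
  rw [hW', hW, hCE, hcardE] at hfw
  simp only [Subgroup.card_bot, one_pow, one_mul, mul_one] at hfw
  exact hfw

end BB

end Cfsg.Agent.Helper14.FX
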