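import Mathlib
import Cfsg.Agent.Lib.FX.FXDefs
import Cfsg.Agent.Lib.FX.FXB1
import Cfsg.Agent.Lib.FX.FXB2A
import Cfsg.Agent.Lib.FX.FXB2B
import Cfsg.Agent.Lib.FX.FXB3
import Cfsg.Agent.Lib.FX.FXB4
import Cfsg.Agent.Lib.FX.FXB5
import Cfsg.Agent.Lib.FX.FXB6
import Cfsg.Agent.Lib.FX.FXQ1
import Cfsg.Agent.Lib.FX.FXQ1B
import Cfsg.Agent.Lib.FX.FXQGEN
import Cfsg.Agent.Lib.FX.FXQSTEP
import Cfsg.Agent.Lib.FX.FXM1
import Cfsg.Agent.Lib.FX.FXMIN
import Cfsg.Agent.Lib.FX.FXM5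
import Cfsg.Agent.Lib.FX.FXM5C
import Cfsg.Agent.Lib.FX.FXM6
import Cfsg.Agent.Lib.FX.FXE1
import Cfsg.Agent.Lib.FX.FXE2
import Cfsg.Agent.Lib.FX.FXE3
import Cfsg.Agent.Lib.FX.FXA0
import Cfsg.Agent.Lib.FX.FXTRANSFER
import Cfsg.Agent.Lib.FX.FXHOMFIX
import Cfsg.Agent.Lib.FX.FXA1
import Cfsg.Agent.Lib.FX.FXFRAT
import Cfsg.Agent.Lib.FX.FXGENNE
import Cfsg.Agent.Lib.FX.FXPHI0
import Cfsg.Agent.Lib.FX.FXPHIF
import Cfsg.Agent.Lib.FX.FXCC
import Cfsg.Agent.Lib.FX.FXPOLAR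
import Cfsg.Agent.Lib.FX.FXENDA
import Cfsg.Agent.Lib.FX.FXBB1
import Cfsg.Agent.Lib.FX.FXBB3
import Cfsg.Agent.Lib.FX.FXISQ
import Cfsg.Agent.Lib.FX.FXQF
import Cfsg.Agent.Lib.FX.FXQIRR
import Cfsg.Agent.Lib.FX.FXQFPF
import Cfsg.Agent.Lib.FX.FXCARDV

/-! S3816 piece FX-CDQ (helper14 design; see plans/S3816_plan.md).  Proved by helper28.  (Stub text: overwrite this file, keeping the
statement(s), namespace, variables and imports (extra imports of Mathlib / landed Lib files allowed; every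
EARLIER FX piece is already imported and may be used as a black box). Aux lemmas: fresh names `fx_cdq_...`.) -/

set_option autoImplicit false

namespace Cfsg.Agent.Helper14.FX

open Subgroup

universe u

variable {X : Type u} [Group X]

section BB
variable [Finite X] {p : ℕ} [Fact p.Prime] {a : X} {K V Q : Subgroup X} {r s : ℕ}

theorem cD_eq_Q (h : MinCE p a K) (hV : IsMin a K V r) (hB : ¬ ∀ v ∈ V, ∀ k ∈ K, v * k = k * v)
    (hQ : IsQ a K V Q s) {g : X} (hg : g ∈ Q) (hg1 : g ≠ 1) : cD a g = Q := by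
  have hle : cD a g ≤ Q := cD_le hQ.inv hg
  rcases (Q_irred h hV hB hQ).2 (cD a g) hle (inv_cD a g) with h0 | h0
  · exfalso
    apply hg1
    have h1 : g⁻¹ * (a ^ 1 * g * (a ^ 1)⁻¹) ∈ cD a g := gen_mem_cD a g 1
    rw [h0, Subgroup.mem_bot, pow_one] at h1
    have h2 : a * g = g * a := by
      calc a * g = g * (g⁻¹ * (a * g * a⁻¹)) * a := by group
        _ = g * a := by rw [h1, mul_one]
    have h3 : g ∈ Q ⊓ cC a := Subgroup.mem_inf.2 ⟨hg, mem_cC.2 h2⟩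
    rw [(Q_fpf h hV hB hQ).1, Subgroup.mem_bot] at h3
    exact h3
  · exact h0

theorem cD_compl (h : MinCE p a K) (hV : IsMin a K V r) (hB : ¬ ∀ v ∈ V, ∀ k ∈ K, v * k = k * v)
    (hQ : IsQ a K V Q s) {g : X} (hg : g ∈ Q) (hg1 : g ≠ 1) {v : X} (hv : v ∈ V) :
    cD a (g * v) ⊔ V = K ∧ cD a (g * v) ⊓ V = ⊥ := by
  have hgvK : g * v ∈ K := mul_mem (hQ.le hg) (hV.le hv)
  have hYK : cD a (g * v) ≤ K := cD_le h.hyp.inv hgvK
  -- `Y ⊔ V = K`
  have hQle : Q ≤ cD a (g * v) ⊔ V := by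
    rw [← cD_eq_Q h hV hB hQ hg hg1]
    unfold cD
    rw [closure_le]
    rintro c ⟨i, rfl⟩
    have hy : (g * v)⁻¹ * (a ^ i * (g * v) * (a ^ i)⁻¹) ∈ cD a (g * v) := gen_mem_cD a (g * v) i
    have hvi : a ^ i * v * (a ^ i)⁻¹ ∈ V := inv_pow hV.inv i v hv
    have e : g⁻¹ * (a ^ i * g * (a ^ i)⁻¹) =
        v * ((g * v)⁻¹ * (a ^ i * (g * v) * (a ^ i)⁻¹)) * (a ^ i * v * (a ^ i)⁻¹)⁻¹ := by group
    rw [SetLike.mem_coe, e]
    exact mul_mem (mul_mem (Subgroup.mem_sup_right hv) (Subgroup.mem_sup_left hy))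
      (inv_mem (Subgroup.mem_sup_right hvi))
  have hsup : cD a (g * v) ⊔ V = K := by
    apply le_antisymm (sup_le hYK hV.le)
    rw [← hQ.sup]
    exact sup_le hQle le_sup_right
  refine ⟨hsup, ?_⟩
  -- `Y ⊓ V` is normalized by `K = Y ⊔ V`
  have hnY : cD a (g * v) ≤ normalizer ((cD a (g * v) ⊓ V : Subgroup X) : Set X) := by
    intro y hy
    rw [mem_normalizer_iff]
    intro w
    constructor
    · intro hw
      obtain ⟨hwY, hwV⟩ := Subgroup.mem_inf.1 hw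
      exact Subgroup.mem_inf.2 ⟨mul_mem (mul_mem hy hwY) (inv_mem hy), hV.nml y (hYK hy) w hwV⟩
    · intro hw
      obtain ⟨hwY, hwV⟩ := Subgroup.mem_inf.1 hw
      have e : w = y⁻¹ * (y * w * y⁻¹) * y⁻¹⁻¹ := by group
      rw [e]
      exact Subgroup.mem_inf.2 ⟨mul_mem (mul_mem (inv_mem hy) hwY) (inv_mem (inv_mem hy)),
        hV.nml y⁻¹ (inv_mem (hYK hy)) _ hwV⟩
  have hnV : V ≤ normalizer ((cD a (g * v) ⊓ V : Subgroup X) : Set X) := by
    intro u hu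
    rw [mem_normalizer_iff]
    intro w
    constructor
    · intro hw
      have hwV := (Subgroup.mem_inf.1 hw).2
      have e : u * w * u⁻¹ = w := by rw [hV.comm u hu w hwV]; group
      rw [e]
      exact hw
    · intro hw
      have hwV : w ∈ V := by
        have h1 := (Subgroup.mem_inf.1 hw).2
        have e : w = u⁻¹ * (u * w * u⁻¹) * u := by group
        rw [e]
        exact mul_mem (mul_mem (inv_mem hu) h1) hu
      have e : u * w * u⁻¹ = w := by rw [hV.comm u hu w hwV]; group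
      rw [e] at hw
      exact hw
  have hnml : Nml K (cD a (g * v) ⊓ V) := by
    intro k hk w hw
    have hkn : k ∈ normalizer ((cD a (g * v) ⊓ V : Subgroup X) : Set X) := by
      rw [← hsup] at hk
      exact (sup_le hnY hnV) hk
    exact (mem_normalizer_iff.1 hkn w).1 hw
  rcases hV.min _ inf_le_right hnml (inv_inf (inv_cD a (g * v)) hV.inv) with h0 | h0
  · exact h0
  · exfalso
    have hVY : V ≤ cD a (g * v) := by
      rw [← h0]
      exact inf_le_left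
    have hYeq : cD a (g * v) = K := by
      rw [← hsup]
      exact (sup_eq_left.2 hVY).symm
    apply fix_not_le h
    have h1 : cD a (g * v) ⊓ cC a ≤ cR a K := cD_inf_le_cR hgvK
    rwa [hYeq] at h1

end BB

end Cfsg.Agent.Helper14.FX
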