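import Mathlib
import Cfsg.Agent.Lib.FX.FXDefs
import Cfsg.Agent.Lib.FX.FXB1
import Cfsg.Agent.Lib.FX.FXB2A
import Cfsg.Agent.Lib.FX.FXB2B
import Cfsg.Agent.Lib.FX.FXB3
import Cfsg.Agent.Lib.FX.FXB4
import Cfsg.Agent.Lib.FX.FXB5
import Cfsg.Agent.Lib.FX.FXB6
import Cfsg.Agent.Lib.FX.FXQ1
import Cfsg.Agent.Lib.FX.FXQ1B
import Cfsg.Agent.Lib.FX.FXQGEN
import Cfsg.Agent.Lib.FX.FXQSTEP
import Cfsg.Agent.Lib.FX.FXM1
import Cfsg.Agent.Lib.FX.FXMIN
import Cfsg.Agent.Lib.FX.FXM5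
import Cfsg.Agent.Lib.FX.FXM5C
import Cfsg.Agent.Lib.FX.FXM6
import Cfsg.Agent.Lib.FX.FXE1
import Cfsg.Agent.Lib.FX.FXE2
import Cfsg.Agent.Lib.FX.FXE3
import Cfsg.Agent.Lib.FX.FXA0
import Cfsg.Agent.Lib.FX.FXTRANSFER
import Cfsg.Agent.Lib.FX.FXHOMFIX
import Cfsg.Agent.Lib.FX.FXA1
import Cfsg.Agent.Lib.FX.FXFRAT
import Cfsg.Agent.Lib.FX.FXGENNE
import Cfsg.Agent.Lib.FX.FXPHI0
import Cfsg.Agent.Lib.FX.FXPHIF
import Cfsg.Agent.Lib.FX.FXCC
import Cfsg.Agent.Lib.FX.FXPOLAR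
import Cfsg.Agent.Lib.FX.FXENDA
import Cfsg.Agent.Lib.FX.FXBB1
import Cfsg.Agent.Lib.FX.FXBB3
import Cfsg.Agent.Lib.FX.FXISQ
import Cfsg.Agent.Lib.FX.FXQF
import Cfsg.Agent.Lib.FX.FXQIRR
import Cfsg.Agent.Lib.FX.FXQFPF
import Cfsg.Agent.Lib.FX.FXCARDV
import Cfsg.Agent.Lib.FX.FXCDQ
import Cfsg.Agent.S0024

/-! S3816 piece FX-CONJQ (helper14 design; see plans/S3816_plan.md).  STUB: overwrite this file, keeping the
statement(s), namespace, variables and imports (extra imports of Mathlib / landed Lib files allowed; every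
EARLIER FX piece is already imported and may be used as a black box). Aux lemmas: fresh names `fx_conjq_...`. -/

set_option autoImplicit false

namespace Cfsg.Agent.Helper14.FX

open Subgroup

open scoped Pointwise

universe u

variable {X : Type u} [Group X]

section BB
variable [Finite X] {p : ℕ} [Fact p.Prime] {a : X} {K V Q : Subgroup X} {r s : ℕ}

/-- `Inv a W` puts `zpowers a` inside the normaliser of `W` -/
theorem fx_conjq_zpowers_le {W : Subgroup X} (hi : Inv a W) :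
    Subgroup.zpowers a ≤ Subgroup.normalizer (W : Set X) := by
  rw [Subgroup.zpowers_le, Subgroup.mem_normalizer_iff]
  intro k
  constructor
  · exact hi k
  · intro hk
    have h1 := Cfsg.Agent.Helper14.FX.inv_inv hi _ hk
    have e : a⁻¹ * (a * k * a⁻¹) * a = k := by group
    rwa [e] at h1

omit [Finite X] in
/-- cardinalities for a complement `A` of the normal subgroup `V` of `K` -/
theorem fx_conjq_card {A : Subgroup X} (hn : Nml K V) (hVK : V ≤ K) (hsup : A ⊔ V = K)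
    (hinf : A ⊓ V = ⊥) :
    Nat.card A * Nat.card V = Nat.card K ∧ (A.subgroupOf K).index = Nat.card V := by
  have hAK : A ≤ K := hsup ▸ le_sup_left
  have hnorm : (V.subgroupOf K).Normal := by
    constructor
    intro n hn' g
    rw [Subgroup.mem_subgroupOf] at hn' ⊢
    exact hn g g.2 n hn'
  have hdisj : Disjoint (A.subgroupOf K) (V.subgroupOf K) := by
    rw [Subgroup.disjoint_def]
    intro x hxA hxV
    rw [Subgroup.mem_subgroupOf] at hxA hxV
    have hx : (x : X) ∈ A ⊓ V := ⟨hxA, hxV⟩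
    rw [hinf, Subgroup.mem_bot] at hx
    exact Subtype.ext hx
  have htop : A.subgroupOf K ⊔ V.subgroupOf K = ⊤ := by
    rw [← Subgroup.subgroupOf_sup hAK hVK, hsup, Subgroup.subgroupOf_self]
  have hmul : ((A.subgroupOf K : Subgroup K) : Set K) * ((V.subgroupOf K : Subgroup K) : Set K) =
      Set.univ := by
    rw [← Subgroup.mul_normal, htop, Subgroup.coe_top]
  have hc : Subgroup.IsComplement' (A.subgroupOf K) (V.subgroupOf K) :=
    Subgroup.isComplement'_of_disjoint_and_mul_eq_univ hdisj hmul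
  have e1 : Nat.card (A.subgroupOf K) = Nat.card A :=
    Nat.card_congr (Subgroup.subgroupOfEquivOfLe hAK).toEquiv
  have e2 : Nat.card (V.subgroupOf K) = Nat.card V :=
    Nat.card_congr (Subgroup.subgroupOfEquivOfLe hVK).toEquiv
  refine ⟨?_, ?_⟩
  · rw [← e1, ← e2]
    exact hc.card_mul_card
  · rw [← e2]
    exact hc.symm.index_eq_card

theorem cD_conj_Q (h : MinCE p a K) (hV : IsMin a K V r) (hB : ¬ ∀ v ∈ V, ∀ k ∈ K, v * k = k * v)
    (hQ : IsQ a K V Q s) {g : X} (hg : g ∈ Q) (hg1 : g ≠ 1) {v : X} (hv : v ∈ V) :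
    ∃ w ∈ V ⊓ cC a, ∀ y ∈ cD a (g * v), w * y * w⁻¹ ∈ Q := by
  obtain ⟨hsr, hQV, -, -⟩ := isQ_facts h hV hB hQ
  obtain ⟨hYsup, hYinf⟩ := cD_compl h hV hB hQ hg hg1 hv
  obtain ⟨-, hfix, hord⟩ := Q_fpf h hV hB hQ
  have hs : Fact s.Prime := ⟨hQ.prime⟩
  have hr : Fact r.Prime := ⟨hV.prime⟩
  have hYK : cD a (g * v) ≤ K := hYsup ▸ le_sup_left
  obtain ⟨cQ, iQ⟩ := fx_conjq_card hV.nml hV.le hQ.sup hQV
  obtain ⟨cY, iY⟩ := fx_conjq_card hV.nml hV.le hYsup hYinf
  have hVpos : 0 < Nat.card V := Nat.card_pos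
  have hcard : Nat.card (cD a (g * v)) = Nat.card Q := by
    apply Nat.eq_of_mul_eq_mul_right hVpos
    rw [cQ, cY]
  have hVr : IsPGroup r V := by
    intro x
    refine ⟨1, ?_⟩
    rw [pow_one]
    apply Subtype.ext
    have h1 := hV.exp x x.2
    simpa using h1
  obtain ⟨n, hn⟩ := IsPGroup.iff_card.mp hVr
  have hndvd : ¬ s ∣ Nat.card V := by
    rw [hn]
    intro hdvd
    exact hsr ((Nat.prime_dvd_prime_iff_eq hQ.prime hV.prime).mp (hQ.prime.dvd_of_dvd_pow hdvd))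
  have hYs : IsPGroup s (cD a (g * v)) := by
    obtain ⟨m, hm⟩ := IsPGroup.iff_card.mp hQ.pg
    exact IsPGroup.of_card (n := m) (by rw [hcard, hm])
  have hQ's : IsPGroup s (Q.subgroupOf K) :=
    hQ.pg.of_equiv (Subgroup.subgroupOfEquivOfLe hQ.le).symm
  have hY's : IsPGroup s ((cD a (g * v)).subgroupOf K) :=
    hYs.of_equiv (Subgroup.subgroupOfEquivOfLe hYK).symm
  have hiQ : ¬ s ∣ (Q.subgroupOf K).index := by rw [iQ]; exact hndvd
  have hiY : ¬ s ∣ ((cD a (g * v)).subgroupOf K).index := by rw [iY]; exact hndvd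
  have hPQ : ((hQ's.toSylow hiQ : Sylow s K) : Subgroup K) = Q.subgroupOf K :=
    IsPGroup.toSylow_coe hQ's hiQ
  have hPY : ((hY's.toSylow hiY : Sylow s K) : Subgroup K) = (cD a (g * v)).subgroupOf K :=
    IsPGroup.toSylow_coe hY's hiY
  have hcop : (Nat.card (Subgroup.zpowers a)).Coprime (Nat.card K) := by
    rw [Nat.card_zpowers, hord]
    exact h.hyp.cop.symm
  have hP1 : Subgroup.zpowers a ≤ Subgroup.normalizer
      ((((hY's.toSylow hiY : Sylow s K) : Subgroup K).map K.subtype : Subgroup X) : Set X) := by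
    rw [hPY, Subgroup.map_subgroupOf_eq_of_le hYK]
    exact fx_conjq_zpowers_le (inv_cD a (g * v))
  have hP2 : Subgroup.zpowers a ≤ Subgroup.normalizer
      ((((hQ's.toSylow hiQ : Sylow s K) : Subgroup K).map K.subtype : Subgroup X) : Set X) := by
    rw [hPQ, Subgroup.map_subgroupOf_eq_of_le hQ.le]
    exact fx_conjq_zpowers_le hQ.inv
  obtain ⟨c, hc, hconj⟩ := Cfsg.Agent.S0024.result (Subgroup.zpowers a) K
    (fx_conjq_zpowers_le h.hyp.inv) hcop (Or.inr h.hyp.solv) s (hY's.toSylow hiY) (hQ's.toSylow hiQ)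
    hP1 hP2
  refine ⟨(c : X), ?_, ?_⟩
  · rw [← hfix]
    exact ⟨c.2, mem_cC.mpr (Subgroup.mem_centralizer_iff.mp hc a (Subgroup.mem_zpowers a))⟩
  · intro y hy
    have hy' : (⟨y, hYK hy⟩ : K) ∈ ((hY's.toSylow hiY : Sylow s K) : Subgroup K) := by
      rw [hPY, Subgroup.mem_subgroupOf]
      exact hy
    have h2 := Subgroup.smul_mem_pointwise_smul _ (MulAut.conj c) _ hy'
    rw [← Sylow.pointwise_smul_def, hconj, hPQ, Subgroup.mem_subgroupOf] at h2
    simpa using h2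

end BB

end Cfsg.Agent.Helper14.FX
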