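import Mathlib
import Cfsg.Agent.Lib.FX.FXDefs
import Cfsg.Agent.Lib.FX.FXB1
import Cfsg.Agent.Lib.FX.FXB2A
import Cfsg.Agent.Lib.FX.FXB2B
import Cfsg.Agent.Lib.FX.FXB3
import Cfsg.Agent.Lib.FX.FXB4
import Cfsg.Agent.Lib.FX.FXB5
import Cfsg.Agent.Lib.FX.FXB6
import Cfsg.Agent.Lib.FX.FXQ1
import Cfsg.Agent.Lib.FX.FXQ1B
import Cfsg.Agent.Lib.FX.FXQGEN
import Cfsg.Agent.Lib.FX.FXQSTEP
import Cfsg.Agent.Lib.FX.FXM1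
import Cfsg.Agent.Lib.FX.FXMIN
import Cfsg.Agent.Lib.FX.FXM5
import Cfsg.Agent.Lib.FX.FXM5C
import Cfsg.Agent.Lib.FX.FXM6
import Cfsg.Agent.Lib.FX.FXE1
import Cfsg.Agent.Lib.FX.FXE2
import Cfsg.Agent.Lib.FX.FXE3
import Cfsg.Agent.Lib.FX.FXA0
import Cfsg.Agent.Lib.FX.FXTRANSFER
import Cfsg.Agent.Lib.FX.FXHOMFIX
import Cfsg.Agent.Lib.FX.FXA1
import Cfsg.Agent.Lib.FX.FXFRAT
import Cfsg.Agent.Lib.FX.FXGENNE
import Cfsg.Agent.Lib.FX.FXPHI0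
import Cfsg.Agent.Lib.FX.FXPHIF
import Cfsg.Agent.Lib.FX.FXCC
import Cfsg.Agent.Lib.FX.FXPOLAR
import Cfsg.Agent.Lib.FX.FXENDA
import Cfsg.Agent.Lib.FX.FXBB1
import Cfsg.Agent.Lib.FX.FXBB3
import Cfsg.Agent.Lib.FX.FXISQ
import Cfsg.Agent.Lib.FX.FXQF
import Cfsg.Agent.Lib.FX.FXQIRR
import Cfsg.Agent.Lib.FX.FXQFPF
import Cfsg.Agent.Lib.FX.FXCARDV
import Cfsg.Agent.Lib.FX.FXCDQ
import Cfsg.Agent.Lib.FX.FXCONJQ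

/-! S3816 piece FX-VSUB (helper14 design; see plans/S3816_plan.md).  STUB: overwrite this file, keeping the
statement(s), namespace, variables and imports (extra imports of Mathlib / landed Lib files allowed; every
EARLIER FX piece is already imported and may be used as a black box). Aux lemmas: fresh names `fx_vsub_...`. -/

set_option autoImplicit false

namespace Cfsg.Agent.Helper14.FX

open Subgroup

universe u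

variable {X : Type u} [Group X]

section BB
variable [Finite X] {p : ℕ} [Fact p.Prime] {a : X} {K V Q : Subgroup X} {r s : ℕ}

theorem V_subset (h : MinCE p a K) (hV : IsMin a K V r) (hB : ¬ ∀ v ∈ V, ∀ k ∈ K, v * k = k * v)
    (hQ : IsQ a K V Q s) {g : X} (hg : g ∈ Q) (hg1 : g ≠ 1) :
    ∀ v ∈ V, ∃ z ∈ V ⊓ cC a, ∃ w ∈ V ⊓ cC a, v = g⁻¹ * z * g * w := by
  intro v hv
  obtain ⟨w, hw, hconj⟩ := cD_conj_Q h hV hB hQ hg hg1 hv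
  obtain ⟨hwV, hwC⟩ := Subgroup.mem_inf.1 hw
  obtain ⟨-, hQV, -, -⟩ := isQ_facts h hV hB hQ
  have hy1 : (g * v)⁻¹ * (a ^ 1 * (g * v) * (a ^ 1)⁻¹) ∈ cD a (g * v) := gen_mem_cD a (g * v) 1
  rw [pow_one] at hy1
  have hq : w * ((g * v)⁻¹ * (a * (g * v) * a⁻¹)) * w⁻¹ ∈ Q := hconj _ hy1
  have hg' : a * g * a⁻¹ ∈ Q := hQ.inv g hg
  have hv' : a * v * a⁻¹ ∈ V := hV.inv v hv
  have hgK : g ∈ K := hQ.le hg
  set q₁ : X := g⁻¹ * (a * g * a⁻¹) with hq₁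
  have hq₁Q : q₁ ∈ Q := mul_mem (inv_mem hg) hg'
  have hq₁K : q₁ ∈ K := hQ.le hq₁Q
  -- the element q₁⁻¹ * q lies in Q ⊓ V
  have hmem : q₁⁻¹ * (w * ((g * v)⁻¹ * (a * (g * v) * a⁻¹)) * w⁻¹) ∈ Q ⊓ V := by
    refine Subgroup.mem_inf.2 ⟨mul_mem (inv_mem hq₁Q) hq, ?_⟩
    have e : q₁⁻¹ * (w * ((g * v)⁻¹ * (a * (g * v) * a⁻¹)) * w⁻¹) =
        (q₁⁻¹ * (w * v⁻¹) * q₁⁻¹⁻¹) * ((a * v * a⁻¹) * w⁻¹) := by
      rw [hq₁]; group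
    rw [e]
    exact mul_mem (hV.nml _ (inv_mem hq₁K) _ (mul_mem hwV (inv_mem hv))) (mul_mem hv' (inv_mem hwV))
  rw [hQV, Subgroup.mem_bot] at hmem
  -- hence a (v w⁻¹) a⁻¹ = q₁⁻¹ (v w⁻¹) q₁
  have hwa : a * w⁻¹ * a⁻¹ = w⁻¹ := by
    have := mem_cC.1 hwC
    have h2 : a * w * a⁻¹ = w := by rw [this, mul_inv_cancel_right]
    calc a * w⁻¹ * a⁻¹ = (a * w * a⁻¹)⁻¹ := by group
      _ = w⁻¹ := by rw [h2]
  have key : a * (v * w⁻¹) * a⁻¹ = q₁⁻¹ * (v * w⁻¹) * q₁ := by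
    have e1 : a * (v * w⁻¹) * a⁻¹ = (a * v * a⁻¹) * (a * w⁻¹ * a⁻¹) := by group
    rw [e1, hwa]
    have e2 : q₁⁻¹ * (w * ((g * v)⁻¹ * (a * (g * v) * a⁻¹)) * w⁻¹) =
        (q₁⁻¹ * (v * w⁻¹) * q₁)⁻¹ * ((a * v * a⁻¹) * w⁻¹) := by
      rw [hq₁]; group
    rw [e2] at hmem
    exact (inv_mul_eq_one.1 hmem).symm
  -- z := g (v w⁻¹) g⁻¹ is fixed
  refine ⟨g * (v * w⁻¹) * g⁻¹, Subgroup.mem_inf.2 ⟨hV.nml g hgK _ (mul_mem hv (inv_mem hwV)), ?_⟩,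
    w, hw, by group⟩
  rw [mem_cC]
  have e3 : a * (g * (v * w⁻¹) * g⁻¹) = (a * g * a⁻¹) * (a * (v * w⁻¹) * a⁻¹) * (a * g⁻¹ * a⁻¹) * a := by
    group
  rw [e3, key, hq₁]
  group

end BB

end Cfsg.Agent.Helper14.FX
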