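import Mathlib
import Cfsg.Agent.Lib.FX.FXDefs
import Cfsg.Agent.Lib.FX.FXB1
import Cfsg.Agent.Lib.FX.FXB2A
import Cfsg.Agent.Lib.FX.FXB2B
import Cfsg.Agent.Lib.FX.FXB3
import Cfsg.Agent.Lib.FX.FXB4
import Cfsg.Agent.Lib.FX.FXB5
import Cfsg.Agent.Lib.FX.FXB6
import Cfsg.Agent.Lib.FX.FXQ1
import Cfsg.Agent.Lib.FX.FXQ1B
import Cfsg.Agent.Lib.FX.FXQGEN
import Cfsg.Agent.Lib.FX.FXQSTEP
import Cfsg.Agent.Lib.FX.FXM1
import Cfsg.Agent.Lib.FX.FXMIN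
import Cfsg.Agent.Lib.FX.FXM5
import Cfsg.Agent.Lib.FX.FXM5C
import Cfsg.Agent.Lib.FX.FXM6
import Cfsg.Agent.Lib.FX.FXE1
import Cfsg.Agent.Lib.FX.FXE2
import Cfsg.Agent.Lib.FX.FXE3
import Cfsg.Agent.Lib.FX.FXA0
import Cfsg.Agent.Lib.FX.FXTRANSFER
import Cfsg.Agent.Lib.FX.FXHOMFIX
import Cfsg.Agent.Lib.FX.FXA1
import Cfsg.Agent.Lib.FX.FXFRAT
import Cfsg.Agent.Lib.FX.FXGENNE
import Cfsg.Agent.Lib.FX.FXPHI0
import Cfsg.Agent.Lib.FX.FXPHIF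
import Cfsg.Agent.Lib.FX.FXCC
import Cfsg.Agent.Lib.FX.FXPOLAR
import Cfsg.Agent.Lib.FX.FXENDA
import Cfsg.Agent.Lib.FX.FXBB1
import Cfsg.Agent.Lib.FX.FXBB3
import Cfsg.Agent.Lib.FX.FXISQ
import Cfsg.Agent.Lib.FX.FXQF
import Cfsg.Agent.Lib.FX.FXQIRR
import Cfsg.Agent.Lib.FX.FXQFPF
import Cfsg.Agent.Lib.FX.FXCARDV
import Cfsg.Agent.Lib.FX.FXCDQ
import Cfsg.Agent.Lib.FX.FXCONJQ
import Cfsg.Agent.Lib.FX.FXVSUB

/-! S3816 piece FX-BEND (helper14 design; see plans/S3816_plan.md).  Proved by helper10 (aux names `fx_bend_...`). -/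

set_option autoImplicit false

namespace Cfsg.Agent.Helper14.FX

open Subgroup

universe u

variable {X : Type u} [Group X]

theorem fx_bend_arith {n p : ℕ} (hn : 0 < n) (hp : 3 ≤ p) (h : n ^ p ≤ n * n) : n = 1 := by
  by_contra hne
  have h2 : 2 ≤ n := by omega
  have h3 : n ^ 3 ≤ n ^ p := Nat.pow_le_pow_right hn hp
  have h4 : n ^ 3 = n * n * n := by ring
  have h5 : n * n * 2 ≤ n * n * n := Nat.mul_le_mul_left _ h2
  have h6 : 0 < n * n := Nat.mul_pos hn hn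
  omega

section BB
variable [Finite X] {p : ℕ} [Fact p.Prime] {a : X} {K V Q : Subgroup X} {r s : ℕ}

theorem caseB_false (hp2 : p ≠ 2) (h : MinCE p a K) (hV : IsMin a K V r)
    (hB : ¬ ∀ v ∈ V, ∀ k ∈ K, v * k = k * v) : False := by
  obtain ⟨s, Q, hQ⟩ := exists_isQ h hV hB
  obtain ⟨-, -, hQne, -⟩ := isQ_facts h hV hB hQ
  obtain ⟨g, hg, hg1⟩ := (Subgroup.ne_bot_iff_exists_ne_one (H := Q)).1 hQne |>.imp
    (fun g hg => hg) |> fun ⟨g, hg1⟩ => (⟨g.1, g.2, fun h => hg1 (Subtype.ext h)⟩ :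
      ∃ g : X, g ∈ Q ∧ g ≠ 1)
  have hsub := V_subset h hV hB hQ hg hg1
  choose! z hz w hw hv using hsub
  let f : ↥V → ↥(V ⊓ cC a) × ↥(V ⊓ cC a) :=
    fun v => (⟨z v.1, hz v.1 v.2⟩, ⟨w v.1, hw v.1 v.2⟩)
  have hf : Function.Injective f := by
    intro v v' hvv
    have h1 : z v.1 = z v'.1 := congrArg (fun q => (q.1 : X)) hvv
    have h2 : w v.1 = w v'.1 := congrArg (fun q => (q.2 : X)) hvv
    apply Subtype.ext
    rw [hv v.1 v.2, hv v'.1 v'.2, h1, h2]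
  have hle : Nat.card ↥V ≤ Nat.card ↥(V ⊓ cC a) * Nat.card ↥(V ⊓ cC a) := by
    have := Nat.card_le_card_of_injective f hf
    rwa [Nat.card_prod] at this
  have hcard := card_V h hV hB hQ
  rw [hcard] at hle
  have hp3 : 3 ≤ p := by
    have := (Fact.out : p.Prime).two_le
    omega
  have hn1 : Nat.card ↥(V ⊓ cC a) = 1 := fx_bend_arith Nat.card_pos hp3 hle
  rw [hn1, one_pow] at hcard
  exact hV.ne_bot (Subgroup.eq_bot_of_card_eq V hcard)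

end BB

end Cfsg.Agent.Helper14.FX
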