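import Mathlib
import Cfsg.Agent.Lib.FX.FXDefs
import Cfsg.Agent.Lib.FX.FXMIN
import Cfsg.Agent.Lib.FX.FXENDA
import Cfsg.Agent.Lib.FX.FXBEND

/-! S3816 (helper14): assembly of the internal main theorem from the FX pieces. -/

set_option autoImplicit false

namespace Cfsg.Agent.Helper14.FX

open Subgroup

universe u

section Final
variable {X : Type u} [Group X] [Finite X] {p : ℕ} [Fact p.Prime] {a : X} {K : Subgroup X}

theorem minCE_false (hp2 : p ≠ 2) (h : MinCE p a K) : False := by
  obtain ⟨V, r, hV⟩ := exists_isMin h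
  by_cases hA : ∀ v ∈ V, ∀ k ∈ K, v * k = k * v
  · exact caseA_false hp2 h hV hA
  · exact caseB_false hp2 h hV hA

theorem main_aux (hp2 : p ≠ 2) : ∀ (n : ℕ) (X : Type u) [Group X] [Finite X] (a : X) (K : Subgroup X),
    Nat.card K = n → Hyp p a K → Good a K := by
  intro n
  induction n using Nat.strong_induction_on with
  | _ n ih =>
    intro X _ _ a K hn hyp
    by_contra hbad
    refine minCE_false hp2 (a := a) (K := K) ⟨hyp, ?_, hbad⟩
    intro X' _ _ a' K' hlt hyp'
    exact ih (Nat.card K') (hn ▸ hlt) X' a' K' rfl hyp'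

/-- **Main theorem, internal form.** -/
theorem main (hp2 : p ≠ 2) (h : Hyp p a K) : Good a K := main_aux hp2 _ X a K rfl h

end Final

end Cfsg.Agent.Helper14.FX
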