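import Mathlib
import Cfsg.Agent.Lib.FX.FXDefs
import Cfsg.Agent.Lib.FX.FXMain

/-! S3816 piece FX-BRIDGE (helper14 design; see plans/S3816_plan.md).  STUB: overwrite this file, keeping the
statement, namespace and imports (extra imports allowed; all FX pieces are available through FXMain).
Aux lemmas: fresh names `fx_bridge_...`.
Route: `Y := H ⋊[MonoidHom.id (MulAut H)] MulAut H` (or `H ⋊[(Subgroup.zpowers x).subtype] zpowers x`), finite;
`a := inr x`, `K := inl.range`; `inr g * inl h * inr g⁻¹ = inl (g h)` (`SemidirectProduct.inl_aut`), so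
`a ^ i * inl h * (a ^ i)⁻¹ = inl ((x ^ i) h)`; `cD a (inl h) = (closure {h⁻¹ * (x^i) h}).map inl`,
`cDK a K = (closure {...}).map inl`, `inl h ∈ cC a ↔ x h = h`; apply `main` and pull back along the injective `inl`. -/

set_option autoImplicit false

namespace Cfsg.Agent.Helper14.FX

open Subgroup

section Bridge

variable {H : Type*} [Group H]

/-- the holomorph-type semidirect product -/
abbrev fxHol (H : Type*) [Group H] := H ⋊[MonoidHom.id (MulAut H)] MulAut H

theorem fx_bridge_conj (x : MulAut H) (i : ℕ) (h : H) :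
    (SemidirectProduct.inr x : fxHol H) ^ i * SemidirectProduct.inl h *
        ((SemidirectProduct.inr x : fxHol H) ^ i)⁻¹ = SemidirectProduct.inl ((x ^ i) h) := by
  have := SemidirectProduct.inl_aut (φ := MonoidHom.id (MulAut H)) (x ^ i) h
  rw [map_inv, map_pow, map_pow] at this
  rw [← this]
  rfl

theorem fx_bridge_mem_cC (x : MulAut H) (h : H) :
    (SemidirectProduct.inl h : fxHol H) ∈ cC (SemidirectProduct.inr x : fxHol H) ↔ x h = h := by
  rw [mem_cC]
  have h1 := fx_bridge_conj x 1 h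
  rw [pow_one, pow_one] at h1
  constructor
  · intro hc
    apply SemidirectProduct.inl_injective (φ := MonoidHom.id (MulAut H))
    rw [← h1, hc, mul_inv_cancel_right]
  · intro hx
    rw [hx] at h1
    calc (SemidirectProduct.inr x : fxHol H) * SemidirectProduct.inl h
        = (SemidirectProduct.inr x * SemidirectProduct.inl h * (SemidirectProduct.inr x)⁻¹) *
            SemidirectProduct.inr x := by group
      _ = SemidirectProduct.inl h * SemidirectProduct.inr x := by rw [h1]

theorem fx_bridge_map_one (x : MulAut H) (h : H) :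
    (Subgroup.closure {c : H | ∃ i : ℕ, c = h⁻¹ * (x ^ i) h}).map
        (SemidirectProduct.inl : H →* fxHol H) =
      cD (SemidirectProduct.inr x : fxHol H) (SemidirectProduct.inl h) := by
  rw [MonoidHom.map_closure]
  unfold cD
  congr 1
  ext c
  constructor
  · rintro ⟨d, ⟨i, rfl⟩, rfl⟩
    exact ⟨i, by rw [fx_bridge_conj, map_mul, map_inv]⟩
  · rintro ⟨i, rfl⟩
    exact ⟨h⁻¹ * (x ^ i) h, ⟨i, rfl⟩, by rw [fx_bridge_conj, map_mul, map_inv]⟩

theorem fx_bridge_map_all (x : MulAut H) :
    (Subgroup.closure {c : H | ∃ h : H, ∃ i : ℕ, c = h⁻¹ * (x ^ i) h}).map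
        (SemidirectProduct.inl : H →* fxHol H) =
      cDK (SemidirectProduct.inr x : fxHol H) (SemidirectProduct.inl : H →* fxHol H).range := by
  rw [MonoidHom.map_closure]
  unfold cDK
  congr 1
  ext c
  constructor
  · rintro ⟨d, ⟨h, i, rfl⟩, rfl⟩
    exact ⟨SemidirectProduct.inl h, ⟨h, rfl⟩, i, by rw [fx_bridge_conj, map_mul, map_inv]⟩
  · rintro ⟨g, ⟨h, rfl⟩, i, rfl⟩
    exact ⟨h⁻¹ * (x ^ i) h, ⟨h, i, rfl⟩, by rw [fx_bridge_conj, map_mul, map_inv]⟩

end Bridge

theorem bridge {H : Type*} [Group H] [Finite H]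
    [Group.IsSolvable H] {p : ℕ} [Fact p.Prime] (hp : p ≠ 2) (hcop : (Nat.card H).Coprime p)
    (x : MulAut H) (hx : orderOf x = p) :
    Subgroup.closure {c : H | ∃ h : H, ∃ i : ℕ, c = h⁻¹ * (x ^ i) h} ⊓ (x : H →* H).eqLocus (MonoidHom.id H) =
      ⨆ h : H, Subgroup.closure {c : H | ∃ i : ℕ, c = h⁻¹ * (x ^ i) h} ⊓ (x : H →* H).eqLocus (MonoidHom.id H) := by
  classical
  apply le_antisymm
  · haveI : Finite (fxHol H) := Finite.of_equiv _ SemidirectProduct.equivProd.symm
    set inl : H →* fxHol H := SemidirectProduct.inl with hinl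
    have hinj : Function.Injective inl := SemidirectProduct.inl_injective
    set a : fxHol H := SemidirectProduct.inr x with ha
    set K : Subgroup (fxHol H) := inl.range with hKdef
    have hyp : Hyp p a K := by
      refine ⟨?_, ?_, ?_, ?_⟩
      · rw [ha, ← map_pow, ← hx, pow_orderOf_eq_one, map_one]
      · rintro k ⟨h, rfl⟩
        have := fx_bridge_conj x 1 h
        rw [pow_one] at this
        rw [ha, this]
        exact ⟨_, rfl⟩
      · exact Group.isSolvable_of_surjective (f := inl.rangeRestrict) inl.rangeRestrict_surjective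
      · have : Nat.card K = Nat.card H :=
          (Nat.card_congr (MonoidHom.ofInjective hinj).toEquiv).symm
        rw [this]; exact hcop
    have hgood : Good a K := main hp hyp
    intro c hc
    obtain ⟨hc1, hc2⟩ := Subgroup.mem_inf.1 hc
    have hcfix : x c = c := hc2
    have h1 : inl c ∈ cDK a K ⊓ cC a := by
      refine Subgroup.mem_inf.2 ⟨?_, ?_⟩
      · rw [hKdef, ha, ← fx_bridge_map_all]
        exact Subgroup.mem_map_of_mem _ hc1
      · exact (fx_bridge_mem_cC x c).2 hcfix
    have h2 : inl c ∈ cR a K := hgood h1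
    have key : cR a K ≤ (⨆ h : H, Subgroup.closure {c : H | ∃ i : ℕ, c = h⁻¹ * (x ^ i) h} ⊓
        (x : H →* H).eqLocus (MonoidHom.id H)).map inl := by
      unfold cR
      apply iSup_le
      rintro ⟨g, ⟨h, rfl⟩⟩
      intro y hy
      obtain ⟨hy1, hy2⟩ := Subgroup.mem_inf.1 hy
      have hy1' : y ∈ (Subgroup.closure {c : H | ∃ i : ℕ, c = h⁻¹ * (x ^ i) h}).map inl := by
        rw [fx_bridge_map_one]; exact hy1
      obtain ⟨y₀, hy₀, rfl⟩ := Subgroup.mem_map.1 hy1'
      have hfix : x y₀ = y₀ := (fx_bridge_mem_cC x y₀).1 hy2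
      apply Subgroup.mem_map_of_mem
      have : y₀ ∈ Subgroup.closure {c : H | ∃ i : ℕ, c = h⁻¹ * (x ^ i) h} ⊓
          (x : H →* H).eqLocus (MonoidHom.id H) := Subgroup.mem_inf.2 ⟨hy₀, hfix⟩
      exact le_iSup (fun h : H => Subgroup.closure {c : H | ∃ i : ℕ, c = h⁻¹ * (x ^ i) h} ⊓
          (x : H →* H).eqLocus (MonoidHom.id H)) h this
    obtain ⟨c', hc', hcc⟩ := Subgroup.mem_map.1 (key h2)
    rw [← hinj hcc]
    exact hc'
  · apply iSup_le
    intro h
    apply inf_le_inf_right
    apply Subgroup.closure_mono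
    rintro c ⟨i, rfl⟩
    exact ⟨h, i, rfl⟩

end Cfsg.Agent.Helper14.FX
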